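import Cfsg.Agent.H122.Ore.ETwo
import Cfsg.Agent.H85.Pw.EBlk

/-!
# `E_8(2)`: products of two elements of order dividing `255` (S2453, S2465)

* `pairs_rows` : one block of type `A`, one class of elements of order dividing `N`;
* `pairs_E8_two`, `own_E8_two`.
-/

set_option autoImplicit false
set_option linter.unusedSectionVars false

namespace Cfsg.Agent.H584.War.Eight

open CoxeterSystem Cfsg.Agent.ChevalleyStructure.CoxeterGeom Cfsg.Agent.Tits.Roots Cfsg.Agent.Tits.Core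
  Cfsg.Agent.Nodes.Reps Cfsg.Agent.Nodes.BNOf Cfsg.Agent.Nodes.RGDLib Cfsg.Agent.Nodes.Bruhat
  Cfsg.Agent.Nodes.OppDec Cfsg.Agent.Nodes.LeviDec Cfsg.Agent.Nodes.KindChev Cfsg.Agent.Nodes.ChevCls
  Cfsg.Agent.OddHalf.NI.ModelChev Cfsg.Agent.Nodes.StabComb
  Cfsg.Agent.H162.GaussDec Cfsg.Agent.H162.GaussLevi Cfsg.Agent.H162.GaussSL Cfsg.Agent.H162.GaussMain
  Cfsg.Agent.H162.GaussExc
  Cfsg.Agent.H928.Ore.Frame Cfsg.Agent.H928.Ore.Fix Cfsg.Agent.H777.Ore Cfsg.Agent.H85.Ore Cfsg.Agent.H122.Ore.Blk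
open Cfsg.Lie Cfsg.Agent.ChevalleyStructure Cfsg.Agent.ChevalleyStructure.Elts
  Cfsg.Agent.ChevalleyStructure.RootVec Cfsg.Agent.ChevalleyStructure.NPerm
  Cfsg.Agent.ChevalleyStructure.CoxeterGeomTypes Cfsg.Agent.Nodes.RGDChev Cfsg.Agent.KFacts.RgdChevCoord

universe u

theorem pairs_rows {D : ChevalleyDatum} {l : ℕ} {M : CoxeterMatrix (Fin l)} (hp : IsType D l M) {K : Type u} [Field K]
    [Finite K] (hl : 0 < l) (hG : IsSimpleGroup ↥(D.group K) ∧ ¬ IsMulCommutative ↥(D.group K))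
    (hM : ∀ J : Finset (Fin l), J = ∅ ∨ J = Finset.univ ∨ ∃ a ∈ J, ∃ b, b ∉ J ∧ M a b ≠ 2) {J : Set (Fin l)} {n : ℕ}
    {φ : Matrix.SpecialLinearGroup (Fin (n + 2)) K →* ↥(D.group K)}
    (hr : ∀ A, φ A ∈ LJ M.toCoxeterSystem hp.isCartan (TT D K) (XX D l K) J)
    (hU : UJ M.toCoxeterSystem hp.isCartan (XX D l K) J ≤ (UT (n + 2) K).map φ)
    (hUN : UNJ M.toCoxeterSystem hp.isCartan (XX D l K) J ≤ (LT (n + 2) K).map φ)
    {c : Matrix.SpecialLinearGroup (Fin (n + 2)) K}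
    (hA : ∀ A : Matrix.SpecialLinearGroup (Fin (n + 2)) K, A ≠ 1 → ∃ g h, A = (g * c * g⁻¹) * (h * c * h⁻¹))
    (hNF : NF (VJ M.toCoxeterSystem hp.isCartan (XX D l K) J) (φ c))
    (hNF' : NF (VNJ M.toCoxeterSystem hp.isCartan (XX D l K) J) (φ c)) {N : ℕ} (hN : c ^ N = 1) :
    ∀ g : ↥(D.group K), ∃ a b : ↥(D.group K), g = a * b ∧ a ^ N = 1 ∧ b ^ N = 1 := by
  obtain ⟨p, hpc⟩ := CharP.exists K
  have : Fact p.Prime := ⟨(CharP.char_is_prime_or_zero K p).resolve_right (CharP.char_ne_zero_of_finite K p)⟩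
  have hW := finite_W hp M.toCoxeterSystem
  have := hG.1
  have : Nonempty (Fin l) := ⟨⟨0, hl⟩⟩
  have R := rgd (K := K) hp M.toCoxeterSystem p
  have hnf : ∀ g, NF (VJ M.toCoxeterSystem hp.isCartan (XX D l K) J) (φ (g * c * g⁻¹)) ∧
      NF (VNJ M.toCoxeterSystem hp.isCartan (XX D l K) J) (φ (g * c * g⁻¹)) := by
    intro g
    rw [map_mul, map_mul, map_inv]
    exact ⟨NF.conj (LJ_le_normalizer_VJ R J (hr g)) hNF, NF.conj (LJ_le_normalizer_VNJ R J (hr g)) hNF'⟩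
  have hfac : ∀ v ∈ UNJ M.toCoxeterSystem hp.isCartan (XX D l K) J, ∀ u ∈ UJ M.toCoxeterSystem hp.isCartan (XX D l K) J,
      (∃ g h, v * u = φ (g * c * g⁻¹) * φ (h * c * h⁻¹)) ∨ v * u = φ c * (φ c)⁻¹ := by
    intro v hv u hu
    obtain ⟨L, -, rfl⟩ := hUN hv
    obtain ⟨U, -, rfl⟩ := hU hu
    by_cases h1 : L * U = 1
    · right
      rw [← map_mul, h1, map_one, mul_inv_cancel]
    · obtain ⟨g, h, e⟩ := hA _ h1
      left
      exact ⟨g, h, by rw [← map_mul, e, map_mul]⟩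
  have hpow : ∀ g, φ (g * c * g⁻¹) ^ N = 1 := fun g => by
    rw [← map_pow, conj_pow, hN, mul_one, mul_inv_cancel, map_one]
  have hpow1 : φ c ^ N = 1 := by rw [← map_pow, hN, map_one]
  intro g
  by_cases hg : g ∈ (RGD.B M.toCoxeterSystem hp.isCartan (TT D K) (XX D l K)).normalCore
  · rw [one_of_core hp hl hG.1 hg]
    exact ⟨1, 1, by simp, one_pow _, one_pow _⟩
  · obtain ⟨c₁, c₂, x, y, ⟨h1, h2⟩, h3⟩ := pair R (G1_eq_top hp _) (coord hp)
      (Cfsg.Agent.Nodes.ChevChart.irr_of hM) (J := J) (Pr := fun c₁ c₂ : ↥(D.group K) => c₁ ^ N = 1 ∧ c₂ ^ N = 1)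
      (fun v hv u hu => by
        rcases hfac v hv u hu with ⟨g, h, e⟩ | e
        · exact ⟨_, _, e, ⟨hr _, hr _, (hnf g).2, (hnf h).1⟩, hpow g, hpow h⟩
        · exact ⟨_, _, e, ⟨hr _, inv_mem (hr _), hNF', NF.inv hNF⟩, hpow1, by rw [inv_pow, hpow1, inv_one]⟩) hg
    exact ⟨_, _, h3, by rw [conj_pow, h1, mul_one, mul_inv_cancel], by rw [conj_pow, h2, mul_one, mul_inv_cancel]⟩

/-- **`E_8(2)`.** -/
theorem pairs_E8_two {K : Type u} [Field K] (hK : Nat.card K = 2) :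
    ∀ g : ↥(chevE8.group K), ∃ a b : ↥(chevE8.group K), g = a * b ∧ a ^ 255 = 1 ∧ b ^ 255 = 1 := by
  have : Finite K := Nat.finite_of_card_ne_zero (by rw [hK]; norm_num)
  have hc2 : CharP K 2 := by
    have : Fintype K := Fintype.ofFinite K
    exact charP_of_card_eq_prime (by rw [Fintype.card_eq_nat_card, hK])
  obtain ⟨φ, hφ⟩ := exists_phi8 K
  obtain ⟨c, hc, -, hA⟩ := H934.MF.cert8 hK
  obtain ⟨L, _, _, i, z, hz, -, hd⟩ := H934.MF.eig8 hK
  obtain ⟨g, hg⟩ := hd _ hc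
  obtain ⟨φ', hφ'⟩ := exists_phi8 L
  have : CharP L 2 := charP_of_injective_ringHom i.injective 2
  have : Fact (Nat.Prime 2) := ⟨Nat.prime_two⟩
  have hs : ∀ _ _ : Fin 8, (((-1 : ℤ) : K)) ≠ 0 := fun _ _ => by simp
  have B : H482.Ore.Fix.Bk Cfsg.Agent.Nodes.KindE.isType8 i {k | k ∈ J8} 6 r8 j8 φ φ' (fun _ _ => ((-1 : ℤ) : K)) :=
    { simp := ⟨r8_simple, r8_simple'⟩
      rlt := tab8.rlt
      rJ := tab8.rJ
      hφ := hφ
      hφ' := fun a b hab c => by rw [hφ' a b hab c, map_intCast]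
      ss := fun a => by norm_num }
  have hz0 : z ≠ 0 := by
    rintro rfl
    have h1 : orderOf (0 : L) = 0 := by
      rw [orderOf_eq_zero_iff']
      intro m hm
      rw [zero_pow hm.ne']
      exact zero_ne_one
    rw [h1] at hz
    norm_num at hz
  obtain ⟨n1, n2⟩ := H482.Ore.Fix.nf_block' Cfsg.Agent.Nodes.KindE.isType8 2 B hg (fun q hq hk => by
    have h1 := ne_one_two (n := 6) (by rw [hz]; norm_num) chkW8 hq hk
    rw [prod_wt (lam := fun b : Fin 8 => z ^ (2 ^ (b : ℕ))) (fun a => pow_ne_zero _ hz0)] at h1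
    exact h1)
  have hN : c ^ 255 = 1 := by
    have h1 : (c ^ 255 : Matrix.SpecialLinearGroup (Fin 8) K).1 = c.1 ^ 255 := Matrix.SpecialLinearGroup.coe_pow c 255
    have h2 : (c.1 ^ 255).map i = (c.1.map i) ^ 255 := map_pow i.mapMatrix c.1 255
    have h3 : (fun a : Fin 8 => z ^ (2 ^ (a : ℕ))) ^ 255 = fun _ => (1 : L) := by
      funext a
      rw [Pi.pow_apply, ← pow_mul, mul_comm, pow_mul, ← hz, pow_orderOf_eq_one, one_pow]
    have h4 : Matrix.diagonal (fun _ : Fin 8 => (1 : L)) = 1 := Matrix.diagonal_one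
    have h5 : (c.1 ^ 255).map i = 1 := by
      rw [h2, hg, Cfsg.Agent.H85.Pw.conj_pow', Matrix.diagonal_pow, h3, h4, mul_one, ← Units.val_mul, mul_inv_cancel]
      rfl
    have h6 : (1 : Matrix (Fin 8) (Fin 8) K).map i = 1 := Matrix.map_one _ (map_zero i) (map_one i)
    have h7 : c.1 ^ 255 = 1 := Matrix.map_injective i.injective (h5.trans h6.symm)
    exact Subtype.ext (h1.trans h7)
  exact pairs_rows Cfsg.Agent.Nodes.KindE.isType8 (by norm_num) (Cfsg.Agent.S1054.result chevE8 (by simp))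
    Cfsg.Agent.Nodes.ChevChart.irr8 (phi_mem Cfsg.Agent.Nodes.KindE.isType8 tab8 hφ)
    (UJ_le Cfsg.Agent.Nodes.KindE.isType8 tab8 (s := fun _ _ => ((-1 : ℤ) : K)) hs hφ)
    (UNJ_le Cfsg.Agent.Nodes.KindE.isType8 tab8 (s := fun _ _ => ((-1 : ℤ) : K)) hs hφ) hA n1 n2 hN

/-- **own characteristic** -/
theorem own_E8_two {K : Type u} [Field K] (hK : Nat.card K = 2) : Cfsg.Agent.H78.Pw.All 2 ↥(chevE8.group K) :=
  Cfsg.Agent.H85.Pw.all_of_pairs (by norm_num) (pairs_E8_two hK)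

end Cfsg.Agent.H584.War.Eight
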