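import Cfsg.Agent.H197.OreF.Main
import Cfsg.Agent.H584.Ore.ESixTwo
import Cfsg.Agent.H78.Pw.Base

/-!
# `F₄(2)`: products of two elements of order dividing `21` (S2453)

The class of helper197's `square_two`, with the order.
-/

set_option autoImplicit false
set_option linter.unusedSectionVars false

namespace Cfsg.Agent.H584.War.FourTwo

open CoxeterSystem Cfsg.Agent.ChevalleyStructure.CoxeterGeom Cfsg.Agent.Tits.Roots Cfsg.Agent.Tits.Core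
  Cfsg.Agent.Nodes.Reps Cfsg.Agent.Nodes.BNOf Cfsg.Agent.Nodes.RGDLib Cfsg.Agent.Nodes.Bruhat
  Cfsg.Agent.Nodes.OppDec Cfsg.Agent.Nodes.LeviDec Cfsg.Agent.Nodes.KindChev Cfsg.Agent.Nodes.ChevCls
  Cfsg.Agent.OddHalf.NI.ModelChev Cfsg.Agent.Nodes.StabComb
  Cfsg.Agent.H162.GaussDec Cfsg.Agent.H162.GaussLevi Cfsg.Agent.H162.GaussSL
  Cfsg.Agent.H928.Ore.Frame
open Cfsg.Lie Cfsg.Agent.ChevalleyStructure Cfsg.Agent.ChevalleyStructure.Elts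
  Cfsg.Agent.ChevalleyStructure.RootVec Cfsg.Agent.ChevalleyStructure.NPerm
  Cfsg.Agent.ChevalleyStructure.CoxeterGeomTypes Cfsg.Agent.Nodes.RGDChev Cfsg.Agent.KFacts.RgdChevCoord
open Cfsg.Agent.H584.Ore Cfsg.Agent.H197.OreF

theorem ord_two {G : Type*} [Group G] {a b : G} (h : Commute a b) (ha : orderOf a ∣ 21) (hb : orderOf b ∣ 21) :
    orderOf (a * b) ∣ 21 := by
  rw [orderOf_dvd_iff_pow_eq_one] at *
  rw [h.mul_pow, ha, hb, one_mul]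

theorem X0_seven : Tab.XX0 * Tab.XX0 * Tab.XX0 * Tab.XX0 * Tab.XX0 * Tab.XX0 * Tab.XX0 = 1 := by
  apply Subtype.ext
  change Tab.X0 * Tab.X0 * Tab.X0 * Tab.X0 * Tab.X0 * Tab.X0 * Tab.X0 = 1
  decide +kernel

/-- **The class of order `21`**: `F₄(2)` -/
theorem exists_data : ∃ c z : ↥(chevF4.group (ZMod 2)), z * z = 1 ∧ z * c * z⁻¹ = c⁻¹ ∧ orderOf c ∣ 21 ∧
    ∀ g : ↥(chevF4.group (ZMod 2)), ∃ x y : ↥(chevF4.group (ZMod 2)), g = (x * c * x⁻¹) * (y * c * y⁻¹) := by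
  obtain ⟨φ, hφ⟩ := exists_long (ZMod 2)
  obtain ⟨φS, hφS⟩ := exists_short (ZMod 2)
  have := finite_W hpF CoxeterMatrix.F₄.toCoxeterSystem
  have hcm := comm_blocks hφ
  let Φ : Matrix.SpecialLinearGroup (Fin 3) (ZMod 2) × Matrix.SpecialLinearGroup (Fin 2) (ZMod 2) →*
      ↥(chevF4.group (ZMod 2)) := φ.noncommCoprod (sl hpF 0) hcm
  have hΦ : ∀ A B, Φ (A, B) = φ A * sl hpF 0 B := fun A B => MonoidHom.noncommCoprod_apply _ _ _ _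
  obtain ⟨z, hz1, hz2⟩ := Cfsg.Agent.H692.Ore.exists_real hpF rtL.1 rtL.2.2.2 hφ 0 Tab.tr_XX0 Tab.tr_w
    (hcm Tab.XX0 Tab.w).eq
  obtain ⟨hf1, hf2⟩ := nf hφ
  have k1 := ESixTwo.pow_seven φ X0_seven
  have k2 := ESixTwo.pow_thr (sl hpF (K := ZMod 2) 0) Tab.w_three
  have hord : orderOf (φ Tab.XX0 * sl hpF 0 Tab.w) ∣ 21 :=
    ord_two (G := ↥(chevF4.group (ZMod 2))) (hcm Tab.XX0 Tab.w) k1 k2
  rw [← hΦ] at hz2 hf1 hf2 hord
  refine ⟨Φ (Tab.XX0, Tab.w), z, hz1, hz2, hord, fun g => ?_⟩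
  refine Build.all_of hpF 2 (Cfsg.Agent.S1054.result chevF4 (by simp)) (P := fun g => ∃ x y : ↥(chevF4.group (ZMod 2)),
    g = (x * Φ (Tab.XX0, Tab.w) * x⁻¹) * (y * Φ (Tab.XX0, Tab.w) * y⁻¹)) (fun g hg => ?_) g
  refine Par.square_par (rgd (K := ZMod 2) hpF CoxeterMatrix.F₄.toCoxeterSystem 2) (G1_eq_top hpF _)
    (Cfsg.Agent.H162.GaussExc.coord hpF)
    (Cfsg.Agent.Nodes.ChevChart.irr_of Cfsg.Agent.Nodes.ChevChart.irrF) (J := JF) (K := {k | k = 0 ∨ k = 1}) (S := {0})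
    ?_ ?_ (Cfsg.Agent.H537.Ore.abL_two hpF hφ hΦ (J := JF) fun k => Iff.rfl)
    (Cfsg.Agent.H537.Ore.abS_two hpF hφS (J := {k | k = 0 ∨ k = 1}) fun k => Iff.rfl)
    (ZU := fun _ A => A.2.1 0 1 = 0) (ZL := fun _ A => A.2.1 1 0 = 0) (ZU' := fun _ A => A.1 1 2 = 0)
    (ZL' := fun _ A => A.1 2 1 = 0) ?_ ?_ ?_ (c₀ := (Tab.XX0, Tab.w)) ?_ hf1 hf2 ⟨z, hz2⟩ hg
  · rintro k rfl
    change (0 : Fin 4) ≠ 1
    decide
  · rintro k rfl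
    exact Or.inl rfl
  · rintro k rfl
    exact Cfsg.Agent.H537.Ore.crdL_two hpF hφ hΦ
  · rintro k rfl
    exact Cfsg.Agent.H537.Ore.crdS_two hpF hφS
  · intro v hv u hu
    obtain ⟨y, L', hL', U', hU', e, hpar⟩ := Tab.parity hv hu
    exact ⟨y, L', hL', U', hU', e, fun _ _ => hpar⟩
  · rintro ⟨L, l⟩ hv ⟨U, u⟩ hu hpar
    obtain ⟨hL, hl⟩ := Subgroup.mem_prod.1 hv
    obtain ⟨hU, hu'⟩ := Subgroup.mem_prod.1 hu
    exact Tab.prod_pair ⟨Tab.sw, Tab.sw_w⟩ hL hU (Tab.prod_three hl hu' (hpar 0 rfl))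

/-- **`F₄(2)`.** -/
theorem all_F4_two {K : Type*} [Field K] (hK : Nat.card K = 2) : Cfsg.Agent.H78.Pw.All 2 ↥(chevF4.group K) := by
  obtain ⟨e⟩ := Cfsg.Agent.H584.Ore.ESix.exists_iso hK
  obtain ⟨c, z, -, -, hc, h⟩ := exists_data
  let f := Cfsg.Agent.ChevalleyStructure.FieldIso.groupEquiv chevF4 e
  have key : ∀ x : ↥(chevF4.group (ZMod 2)), (orderOf (f (x * c * x⁻¹))).Coprime 2 := by
    intro x
    refine Nat.Coprime.of_dvd_left ?_ (by norm_num : Nat.Coprime 21 2)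
    rw [MulEquiv.orderOf_eq]
    refine dvd_trans ?_ hc
    rw [show x * c * x⁻¹ = MulAut.conj x c from rfl, MulEquiv.orderOf_eq]
  intro g
  obtain ⟨x, y, h1⟩ := h (f.symm g)
  refine ⟨f (x * c * x⁻¹), f (y * c * y⁻¹), ?_, key x, key y⟩
  rw [← map_mul, ← h1, MulEquiv.apply_symm_apply]

end Cfsg.Agent.H584.War.FourTwo
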