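import Cfsg.Agent.H130.War.Base
import Cfsg.Agent.S1059
import Cfsg.Agent.S1062
import Cfsg.Agent.S1063
import Cfsg.Agent.S1064
import Cfsg.Agent.S1065

/-!
# The numbers for the exceptional rows of S2453
-/

set_option autoImplicit false

namespace Cfsg.Agent.H584.War.Num

open Cfsg.Lie
open Cfsg.Agent.H130.War (ee)

/-! ### The orders of the groups -/

section

variable (F : Type*) [Field F] [Finite F]

theorem card_G2 : Nat.card ↥(chevG2.group F) ≤ Nat.card F ^ 14 := by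
  have := Fintype.ofFinite F
  rw [Cfsg.Agent.S1059.result (F := F) rfl, Nat.card_eq_fintype_card]
  calc _ ≤ Fintype.card F ^ 6 * (Fintype.card F ^ 2) * (Fintype.card F ^ 6) := by
        gcongr <;> exact Nat.sub_le _ _
    _ = _ := by ring

theorem card_F4 : Nat.card ↥(chevF4.group F) ≤ Nat.card F ^ 52 := by
  have := Fintype.ofFinite F
  rw [Cfsg.Agent.S1062.result (F := F) rfl, Nat.card_eq_fintype_card]
  calc _ ≤ Fintype.card F ^ 24 * (Fintype.card F ^ 2) * (Fintype.card F ^ 6) * (Fintype.card F ^ 8) *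
        (Fintype.card F ^ 12) := by
        gcongr <;> exact Nat.sub_le _ _
    _ = _ := by ring

theorem card_E6 : Nat.card ↥(chevE6.group F) ≤ Nat.card F ^ 78 := by
  have := Fintype.ofFinite F
  have h1 := Cfsg.Agent.S1063.result (F := F) rfl
  have h2 : 0 < Nat.gcd 3 (Fintype.card F - 1) := Nat.gcd_pos_of_pos_left _ (by norm_num)
  refine (Nat.le_mul_of_pos_left _ h2).trans ?_
  rw [h1, Nat.card_eq_fintype_card]
  calc _ ≤ Fintype.card F ^ 36 * (Fintype.card F ^ 2) * (Fintype.card F ^ 5) * (Fintype.card F ^ 6) *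
        (Fintype.card F ^ 8) * (Fintype.card F ^ 9) * (Fintype.card F ^ 12) := by
        gcongr <;> exact Nat.sub_le _ _
    _ = _ := by ring

theorem card_E7 : Nat.card ↥(chevE7.group F) ≤ Nat.card F ^ 133 := by
  have := Fintype.ofFinite F
  have h1 := Cfsg.Agent.S1064.result (F := F) rfl
  have h2 : 0 < Nat.gcd 2 (Fintype.card F - 1) := Nat.gcd_pos_of_pos_left _ (by norm_num)
  refine (Nat.le_mul_of_pos_left _ h2).trans ?_
  rw [h1, Nat.card_eq_fintype_card]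
  calc _ ≤ Fintype.card F ^ 63 * (Fintype.card F ^ 2) * (Fintype.card F ^ 6) * (Fintype.card F ^ 8) *
        (Fintype.card F ^ 10) * (Fintype.card F ^ 12) * (Fintype.card F ^ 14) * (Fintype.card F ^ 18) := by
        gcongr <;> exact Nat.sub_le _ _
    _ = _ := by ring

theorem card_E8 : Nat.card ↥(chevE8.group F) ≤ Nat.card F ^ 248 := by
  have := Fintype.ofFinite F
  rw [Cfsg.Agent.S1065.result (F := F) rfl, Nat.card_eq_fintype_card]
  calc _ ≤ Fintype.card F ^ 120 * (Fintype.card F ^ 2) * (Fintype.card F ^ 8) * (Fintype.card F ^ 12) *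
        (Fintype.card F ^ 14) * (Fintype.card F ^ 18) * (Fintype.card F ^ 20) * (Fintype.card F ^ 24) *
        (Fintype.card F ^ 30) := by
        gcongr <;> exact Nat.sub_le _ _
    _ = _ := by ring

end

/-! ### The bounds for the field -/

section

variable {m q : ℕ}

theorem pow_le_big {a M : ℕ} (hm : a ≤ m) (ha : 1 ≤ a) (hM : M ≤ 8 * a ^ 2) : a ^ M ≤ m ^ (8 * m ^ 2) := by
  have h1 : 8 * a ^ 2 ≤ 8 * m ^ 2 := Nat.mul_le_mul_left 8 (Nat.pow_le_pow_left hm 2)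
  exact (Nat.pow_le_pow_left hm M).trans (Nat.pow_le_pow_right (by omega) (hM.trans h1))

theorem big_six {d : ℕ} (hd : d ≤ 78) (hq : 1 ≤ q) (hm : 6 ≤ m) (h : m ^ (8 * m ^ 2) ≤ q ^ d) : 6 * m ^ 2 < q := by
  by_contra hc
  have h1 : q ≤ m ^ 3 := by
    have : 6 * m ^ 2 ≤ m ^ 3 := by rw [pow_succ m 2, mul_comm]; exact Nat.mul_le_mul_left _ hm
    omega
  have h2 : q ^ d ≤ m ^ 234 := by
    calc q ^ d ≤ q ^ 78 := Nat.pow_le_pow_right hq hd
      _ ≤ (m ^ 3) ^ 78 := Nat.pow_le_pow_left h1 78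
      _ = m ^ 234 := by rw [← pow_mul]
  have h3 : 288 ≤ 8 * m ^ 2 := by nlinarith
  have h4 : m ^ 234 < m ^ (8 * m ^ 2) := Nat.pow_lt_pow_right (by omega) (by omega)
  omega

theorem big_seven (hm : 6 ≤ m) (h : m ^ (8 * m ^ 2) ≤ q ^ 133) : m ^ 2 < q := by
  by_contra hc
  have h2 : q ^ 133 ≤ m ^ 266 := by
    calc q ^ 133 ≤ (m ^ 2) ^ 133 := Nat.pow_le_pow_left (by omega) 133
      _ = m ^ 266 := by rw [← pow_mul]
  have h3 : 288 ≤ 8 * m ^ 2 := by nlinarith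
  have h4 : m ^ 266 < m ^ (8 * m ^ 2) := Nat.pow_lt_pow_right (by omega) (by omega)
  omega

theorem big_eight (hm : 8 ≤ m) (h : m ^ (8 * m ^ 2) ≤ q ^ 248) : m ^ 2 < q := by
  by_contra hc
  have h2 : q ^ 248 ≤ m ^ 496 := by
    calc q ^ 248 ≤ (m ^ 2) ^ 248 := Nat.pow_le_pow_left (by omega) 248
      _ = m ^ 496 := by rw [← pow_mul]
  have h3 : 512 ≤ 8 * m ^ 2 := by nlinarith
  have h4 : m ^ 496 < m ^ (8 * m ^ 2) := Nat.pow_lt_pow_right (by omega) (by omega)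
  omega

theorem big_eight' (hm : 6 ≤ m) (h : m ^ (8 * m ^ 2) ≤ q ^ 248) : 6 ≤ q := by
  by_contra hc
  have h1 : 6 ^ 288 ≤ m ^ (8 * m ^ 2) := pow_le_big hm (by norm_num) (by norm_num)
  have h2 : q ^ 248 ≤ 5 ^ 248 := Nat.pow_le_pow_left (by omega) 248
  have h3 : (5 : ℕ) ^ 248 < 6 ^ 288 :=
    (Nat.pow_lt_pow_left (by norm_num) (by norm_num)).trans_le (Nat.pow_le_pow_right (by norm_num) (by norm_num))
  omega

theorem small_G2 (hm : 2 ≤ m) (h : m ^ (8 * m ^ 2) ≤ q ^ 14) : 5 ≤ q := by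
  by_contra hc
  have h1 : 2 ^ 32 ≤ m ^ (8 * m ^ 2) := pow_le_big hm (by norm_num) (by norm_num)
  have h2 : q ^ 14 ≤ 4 ^ 14 := Nat.pow_le_pow_left (by omega) 14
  have h3 : (4 : ℕ) ^ 14 < 2 ^ 32 := by norm_num
  omega

theorem small_G2' (hm : 3 ≤ m) (h : m ^ (8 * m ^ 2) ≤ q ^ 14) : 8 ≤ q := by
  by_contra hc
  have h1 : 3 ^ 72 ≤ m ^ (8 * m ^ 2) := pow_le_big hm (by norm_num) (by norm_num)
  have h2 : q ^ 14 ≤ 7 ^ 14 := Nat.pow_le_pow_left (by omega) 14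
  have h3 : (7 : ℕ) ^ 14 < 3 ^ 72 := by norm_num
  omega

theorem small_F4 (hm : 3 ≤ m) (h : m ^ (8 * m ^ 2) ≤ q ^ 52) : 4 ≤ q := by
  by_contra hc
  have h1 : 3 ^ 72 ≤ m ^ (8 * m ^ 2) := pow_le_big hm (by norm_num) (by norm_num)
  have h2 : q ^ 52 ≤ 3 ^ 52 := Nat.pow_le_pow_left (by omega) 52
  have h3 : (3 : ℕ) ^ 52 < 3 ^ 72 := by norm_num
  omega

end

/-! ### The exponent -/

section

variable {p k l : ℕ}

theorem ee_ne_zero (hk : 1 ≤ k) (hl : 1 ≤ l) : ee p k l ≠ 0 := by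
  unfold ee
  have h1 : Nat.lcm k l ≠ 0 := Nat.lcm_ne_zero (by omega) (by omega)
  exact (Nat.ordCompl_pos p h1).ne'

theorem lcm_le {k l : ℕ} (hk : 2 ≤ k) (hl : 2 ≤ l) (hg : ¬ k.Coprime l) (hm : max k l ≤ 7) : Nat.lcm k l ≤ 12 := by
  have hk7 : k ≤ 7 := le_trans (le_max_left _ _) hm
  have hl7 : l ≤ 7 := le_trans (le_max_right _ _) hm
  interval_cases k <;> interval_cases l <;>
    first
    | (exfalso; revert hg; decide)
    | decide

/-- `m = 6, 7` -/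
theorem ee_mul_le (hp : p.Prime) (hk : 2 ≤ k) (hl : 2 ≤ l) (hg : ¬ k.Coprime l) (hm : max k l ≤ 7)
    (hd : p ∣ k ∨ p ∣ l) : ee p k l * p ≤ 12 := by
  have h0 : Nat.lcm k l ≠ 0 := Nat.lcm_ne_zero (by omega) (by omega)
  have h1 : p ∣ Nat.lcm k l := hd.elim (fun h => h.trans (Nat.dvd_lcm_left k l)) fun h => h.trans (Nat.dvd_lcm_right k l)
  have h2 : (ee p k l).Coprime p := (Nat.coprime_ordCompl hp h0).symm
  have h3 : ee p k l * p ∣ Nat.lcm k l := h2.mul_dvd_of_dvd_of_dvd (Nat.ordCompl_dvd _ _) h1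
  exact (Nat.le_of_dvd (Nat.pos_of_ne_zero h0) h3).trans (lcm_le hk hl hg hm)

/-- the characteristic is at most `m` -/
theorem p_le (hk : 2 ≤ k) (hl : 2 ≤ l) (hd : p ∣ k ∨ p ∣ l) : p ≤ max k l := by
  rcases hd with h | h
  · exact (Nat.le_of_dvd (by omega) h).trans (le_max_left _ _)
  · exact (Nat.le_of_dvd (by omega) h).trans (le_max_right _ _)

end

end Cfsg.Agent.H584.War.Num
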