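import Cfsg.Agent.H584.War.Gl
import Cfsg.Agent.H584.Ore.Build
import Cfsg.Agent.H482.Ore.Block
import Cfsg.Agent.H194.Pw.Own

/-!
# `E₆(3)`: products of two elements of order prime to `3` (S2453)

The block of type `A₅`; the elements `φ(C₀) d` with `C₀ δ` in `GL_6(3)` of determinant `-1`.
-/

set_option autoImplicit false
set_option linter.unusedSectionVars false

namespace Cfsg.Agent.H584.War.SixThree

open CoxeterSystem Cfsg.Agent.ChevalleyStructure.CoxeterGeom Cfsg.Agent.Tits.Roots Cfsg.Agent.Tits.Core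
  Cfsg.Agent.Nodes.Reps Cfsg.Agent.Nodes.BNOf Cfsg.Agent.Nodes.RGDLib Cfsg.Agent.Nodes.Bruhat
  Cfsg.Agent.Nodes.OppDec Cfsg.Agent.Nodes.LeviDec Cfsg.Agent.Nodes.KindChev Cfsg.Agent.Nodes.ChevCls
  Cfsg.Agent.OddHalf.NI.ModelChev Cfsg.Agent.Nodes.StabComb
  Cfsg.Agent.H162.GaussDec Cfsg.Agent.H162.GaussLevi Cfsg.Agent.H162.GaussSL Cfsg.Agent.H162.GaussReg
  Cfsg.Agent.H162.GaussMain Cfsg.Agent.H162.GaussPQ Cfsg.Agent.H162.GaussExc
open Cfsg.Lie Cfsg.Agent.ChevalleyStructure Cfsg.Agent.ChevalleyStructure.Elts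
  Cfsg.Agent.ChevalleyStructure.RootVec Cfsg.Agent.ChevalleyStructure.NPerm
  Cfsg.Agent.ChevalleyStructure.CoxeterGeomTypes Cfsg.Agent.Nodes.RGDChev Cfsg.Agent.KFacts.RgdChevCoord
open Cfsg.Agent.TitsThree.KExcRT
open Cfsg.Agent.H928.Ore.Frame (NF LP pair)
open Cfsg.Agent.H78.Pw (All)
open Cfsg.Agent.H584.War.Gl Cfsg.Agent.H584.Ore.Build
open Cfsg.Agent.H482.Ore.Fix Cfsg.Agent.Nodes.KindE
open Matrix (SpecialLinearGroup)
open Matrix.SpecialLinearGroup (transvection)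

/-! ### The tables -/

/-- the roots of the block of type `A₅` of `E₆` -/
def r : Fin 6 → Fin 6 → ℕ := ![![0, 56, 57, 58, 59, 60], ![15, 0, 42, 43, 44, 45], ![14, 29, 0, 39, 40, 41],
  ![13, 28, 32, 0, 37, 38], ![12, 27, 31, 34, 0, 36], ![11, 26, 30, 33, 35, 0]]

/-- the nodes of the block -/
abbrev J5 : List (Fin 6) := [0, 2, 3, 4, 5]

/-- the simple roots of the block -/
abbrev j6 : Fin 5 → Fin 6 := ![0, 2, 3, 4, 5]

theorem rt : RTa chevE6 r ∧ (RTb chevE6 r fun _ _ => -1) ∧ RTc chevE6 r ∧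
    ∀ i j, i ≠ j → r j i = chevE6.neg (r i j) := by decide +kernel

theorem chkN : ChkN chevE6 6 J5 6 r := by decide +kernel

theorem r_simple : (∀ a : Fin 5, r a.castSucc a.succ = chevE6.simple (j6 a)) ∧
    ∀ a : Fin 5, r a.succ a.castSucc = chevE6.neg (chevE6.simple (j6 a)) := by decide +kernel

/-- the signs of the diagonal matrix `δ` -/
def e6 : Fin 6 → ℤ := ![1, 1, 1, -1, -1, -1]

/-- the weights -/
def ChkT : Prop := ∀ q < chevE6.nroots, (∃ k : Fin 6, k ∉ J5 ∧ vec chevE6 6 q k ≠ 0) →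
  (∃ k ∈ ([0, -1] : List ℤ), (∀ b, wt chevE6 j6 q b = k ∨ wt chevE6 j6 q b = k + 1) ∧
    (Finset.univ.filter fun b => wt chevE6 j6 q b = k + 1).card = 3) ∨
  ((∀ b, wt chevE6 j6 q b = 0) ∧ (chevE6.cartan 1 q = 1 ∨ chevE6.cartan 1 q = -1))

instance : Decidable ChkT := by
  unfold ChkT
  refine @Nat.decidableBallLT _ _ fun q _ => ?_
  infer_instance

theorem chkT : ChkT := by decide +kernel

/-- the torus element and `δ` -/
theorem chkE : ∀ a b : Fin 6, a ≠ b → (chevE6.cartan 1 (r a b) = 0 ∧ e6 a * e6 b = 1) ∨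
    ((chevE6.cartan 1 (r a b) = 1 ∨ chevE6.cartan 1 (r a b) = -1) ∧ e6 a * e6 b = -1) := by decide +kernel

/-! ### The matrix `δ` -/

section

universe u

variable (K : Type u) [Field K]

theorem e6_sq (a : Fin 6) : ((e6 a : ℤ) : K) * ((e6 a : ℤ) : K) = 1 := by
  rw [← Int.cast_mul]
  have h : ∀ a, e6 a * e6 a = 1 := by decide
  rw [h, Int.cast_one]

/-- `δ` -/
def dl : GL (Fin 6) K where
  val := Matrix.diagonal fun a => ((e6 a : ℤ) : K)
  inv := Matrix.diagonal fun a => ((e6 a : ℤ) : K)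
  val_inv := by
    rw [Matrix.diagonal_mul_diagonal, ← Matrix.diagonal_one]
    congr 1
    funext a
    exact e6_sq K a
  inv_val := by
    rw [Matrix.diagonal_mul_diagonal, ← Matrix.diagonal_one]
    congr 1
    funext a
    exact e6_sq K a

theorem dl_sq : (dl K).1 * (dl K).1 = 1 := (dl K).val_inv

theorem dl_inv : ((dl K)⁻¹ : GL (Fin 6) K).1 = (dl K).1 := rfl

theorem prod_e6 : ∏ a, ((e6 a : ℤ) : K) = -1 := by
  rw [← Int.cast_prod]
  have h : ∏ a, e6 a = -1 := by decide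
  rw [h, Int.cast_neg, Int.cast_one]

theorem det_dl : (dl K).1.det = -1 := by
  change (Matrix.diagonal _).det = _
  rw [Matrix.det_diagonal, prod_e6]

variable {K}

theorem gc_dl {a b : Fin 6} (hab : a ≠ b) (c : K) :
    gc (dl K) (transvection hab c) = transvection hab (((e6 a * e6 b : ℤ) : K) * c) := by
  apply Subtype.ext
  change (dl K).1 * (1 + Matrix.single a b c) * (dl K).1 = 1 + Matrix.single a b _
  rw [mul_add, add_mul, mul_one, dl_sq]
  congr 1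
  change Matrix.diagonal _ * Matrix.single a b c * Matrix.diagonal _ = _
  ext x y
  rw [Matrix.mul_diagonal, Matrix.diagonal_mul, Matrix.single_apply, Matrix.single_apply]
  by_cases h : a = x ∧ b = y
  · obtain ⟨rfl, rfl⟩ := h
    rw [if_pos ⟨rfl, rfl⟩, if_pos ⟨rfl, rfl⟩]
    push_cast
    ring
  · rw [if_neg h, if_neg h, mul_zero, zero_mul]

/-- conjugation by an element of the torus -/
theorem conj_t {φ : SpecialLinearGroup (Fin 6) K →* ↥(chevE6.group K)} {s : Fin 6 → Fin 6 → K}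
    (hφ : ∀ a b (hab : a ≠ b) c, φ (transvection hab c) = xc isType6 (vec chevE6 6 (r a b)) (s a b * c))
    {t : ↥(chevE6.group K)} (ht : t ∈ TT chevE6 K)
    (hch : ∀ a b, a ≠ b → ch isType6 (vec chevE6 6 (r a b)) t = ((e6 a * e6 b : ℤ) : K))
    (A : SpecialLinearGroup (Fin 6) K) : t * φ A * t⁻¹ = φ (gc (dl K) A) := by
  have h1 : (MulAut.conj t).toMonoidHom.comp φ = φ.comp (gcHom (dl K)) := by
    refine hom_ext fun a b hab c => ?_
    change t * φ _ * t⁻¹ = φ (gc (dl K) _)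
    rw [gc_dl, hφ, hφ, (act isType6 (chkN.tab.rlt a b hab) ht).2, hch a b hab]
    congr 1
    ring
  exact DFunLike.congr_fun h1 A

/-- the element of the torus -/
noncomputable def dt (K : Type u) [Field K] : ↥(chevE6.group K) := sg isType6 ![0, 1, 0, 0, 0, 0] (-1 : Kˣ)

theorem dt_mem : dt K ∈ TT chevE6 K := sg_mem isType6 _ _

theorem ch_dt {q : ℕ} (hq : q < chevE6.nroots) :
    ch isType6 (vec chevE6 6 q) (dt K) = (((-1 : Kˣ) ^ chevE6.cartan 1 q : Kˣ) : K) := by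
  unfold dt
  rw [ch_sg isType6 _ _ hq]
  congr 2
  simp [Fin.sum_univ_six]

theorem ch_dt_r {a b : Fin 6} (hab : a ≠ b) :
    ch isType6 (vec chevE6 6 (r a b)) (dt K) = ((e6 a * e6 b : ℤ) : K) := by
  rw [ch_dt (chkN.tab.rlt a b hab)]
  rcases chkE a b hab with ⟨h1, h2⟩ | ⟨h1 | h1, h2⟩
  · rw [h1, h2]; simp
  · rw [h1, h2]; simp
  · rw [h1, h2]; simp

end

/-! ### The powers of the eigenvalues -/

section

variable {K' : Type*} [Field K']

theorem zprod {ι : Type*} [Fintype ι] [DecidableEq ι] {lam : ι → K'} (h0 : ∀ a, lam a ≠ 0) {w : ι → ℤ} {k : ℤ}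
    (h : ∀ a, w a = k ∨ w a = k + 1) :
    ∏ a, lam a ^ w a = (∏ a, lam a) ^ k * ∏ a ∈ Finset.univ.filter (fun a => w a = k + 1), lam a := by
  rw [Finset.prod_filter, ← Finset.prod_zpow, ← Finset.prod_mul_distrib]
  refine Finset.prod_congr rfl fun a _ => ?_
  rcases h a with h | h
  · rw [h, if_neg (by omega), mul_one]
  · rw [h, if_pos rfl, zpow_add₀ (h0 a), zpow_one]

theorem neg_one_sq (k : ℤ) : ((-1 : K') ^ k) * ((-1 : K') ^ k) = 1 := by
  rw [← zpow_add₀ (by simp), ← two_mul, zpow_mul]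
  norm_num

theorem hout {i : ZMod 3 →+* K'} {T : Matrix (Fin 6) (Fin 6) (ZMod 3)} {lam : Fin 6 → K'} (S : Six i T lam) {q : ℕ}
    (hq : q < chevE6.nroots) (hk : ∃ k : Fin 6, k ∉ J5 ∧ vec chevE6 6 q k ≠ 0) :
    (∏ b, (lam b * ((e6 b : ℤ) : K')) ^ wt chevE6 j6 q b) * (-1) ^ chevE6.cartan 1 q ≠ 1 := by
  have h0 : ∀ a, lam a ≠ 0 := fun a h => by
    have h1 := S.pow a
    rw [h, zero_pow (by norm_num)] at h1
    exact zero_ne_one h1
  have h2 : (2 : K') ≠ 0 := by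
    have h3 : CharP K' 3 := charP_of_injective_ringHom i.injective 3
    intro h4
    have h5 := (CharP.cast_eq_zero_iff K' 3 2).1 (by exact_mod_cast h4)
    omega
  rcases chkT q hq hk with ⟨k, -, h3, h4⟩ | ⟨h3, h4⟩
  · intro h1
    refine S.sub _ h4 ?_
    have e1 : ∏ b, (lam b * ((e6 b : ℤ) : K')) ^ wt chevE6 j6 q b =
        (∏ b, lam b ^ wt chevE6 j6 q b) * ∏ b, ((e6 b : ℤ) : K') ^ wt chevE6 j6 q b := by
      rw [← Finset.prod_mul_distrib]
      exact Finset.prod_congr rfl fun b _ => mul_zpow _ _ _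
    have e2 : (∏ b, ((e6 b : ℤ) : K') ^ wt chevE6 j6 q b) * (∏ b, ((e6 b : ℤ) : K') ^ wt chevE6 j6 q b) = 1 := by
      rw [← Finset.prod_mul_distrib]
      refine Finset.prod_eq_one fun b _ => ?_
      rw [← mul_zpow, e6_sq, one_zpow]
    have e3 := zprod h0 h3
    rw [S.prod] at e3
    have e4 := congrArg (fun x => x * x) h1
    simp only [mul_one] at e4
    rw [e1, e3] at e4
    calc (∏ a ∈ Finset.univ.filter (fun b => wt chevE6 j6 q b = k + 1), lam a) ^ 2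
        = (((-1 : K') ^ k) * ((-1 : K') ^ k)) *
            ((∏ b, ((e6 b : ℤ) : K') ^ wt chevE6 j6 q b) * (∏ b, ((e6 b : ℤ) : K') ^ wt chevE6 j6 q b)) *
            (((-1 : K') ^ chevE6.cartan 1 q) * ((-1 : K') ^ chevE6.cartan 1 q)) *
            (∏ a ∈ Finset.univ.filter (fun b => wt chevE6 j6 q b = k + 1), lam a) ^ 2 := by
          rw [neg_one_sq, neg_one_sq, e2, one_mul, one_mul, one_mul]
      _ = _ := by ring
      _ = 1 := e4
  · have e1 : ∏ b, (lam b * ((e6 b : ℤ) : K')) ^ wt chevE6 j6 q b = 1 :=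
      Finset.prod_eq_one fun b _ => by rw [h3 b, zpow_zero]
    rw [e1, one_mul]
    intro h5
    apply h2
    have h6 : (-1 : K') = 1 := by
      rcases h4 with h4 | h4
      · rwa [h4, zpow_one] at h5
      · rw [h4, zpow_neg, zpow_one, inv_neg, inv_one] at h5
        exact h5
    linear_combination -h6

end

/-! ### The element -/

theorem coe_mi {n : ℕ} {F : Type*} [Field F] (A : SpecialLinearGroup (Fin n) F) : A.1 * (A⁻¹).1 = 1 :=
  congrArg Subtype.val (mul_inv_cancel A)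

theorem coe_im {n : ℕ} {F : Type*} [Field F] (A : SpecialLinearGroup (Fin n) F) : (A⁻¹).1 * A.1 = 1 :=
  congrArg Subtype.val (inv_mul_cancel A)

theorem pow_one_of {n : ℕ} {F : Type*} [Field F] {A : SpecialLinearGroup (Fin n) F} {k : ℕ} (h : A.1 ^ k = 1) :
    A ^ k = 1 := by
  apply Subtype.ext
  rw [Matrix.SpecialLinearGroup.coe_pow]
  exact h

/-- **The element of order dividing `242` of `E₆(3)`.** -/
theorem exists_c : ∃ (φ : SpecialLinearGroup (Fin 6) (ZMod 3) →* ↥(chevE6.group (ZMod 3))) (c : ↥(chevE6.group (ZMod 3))),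
    (∀ a b (hab : a ≠ b) x, φ (transvection hab x) = xc isType6 (vec chevE6 6 (r a b)) (((-1 : ℤ) : ZMod 3) * x)) ∧
    c ^ 242 = 1 ∧ c ∈ LJ CoxeterMatrix.E₆.toCoxeterSystem isType6.isCartan (TT chevE6 (ZMod 3)) (XX chevE6 6 (ZMod 3)) {k | k ∈ J5} ∧
    NF (VJ CoxeterMatrix.E₆.toCoxeterSystem isType6.isCartan (XX chevE6 6 (ZMod 3)) {k | k ∈ J5}) c ∧
    NF (VNJ CoxeterMatrix.E₆.toCoxeterSystem isType6.isCartan (XX chevE6 6 (ZMod 3)) {k | k ∈ J5}) c ∧
    ∀ L ∈ LT 6 (ZMod 3), ∀ U ∈ UT 6 (ZMod 3), ∃ g h : SpecialLinearGroup (Fin 6) (ZMod 3),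
      φ (L * U) = (φ g * c * (φ g)⁻¹) * (φ h * c⁻¹ * (φ h)⁻¹) := by
  have hF : Fact (Nat.Prime 3) := ⟨Nat.prime_three⟩
  obtain ⟨K', iF, iK, i, T, lam, S⟩ := exists_six
  have hch : CharP K' 3 := charP_of_injective_ringHom i.injective 3
  obtain ⟨φ, hφ⟩ := Cfsg.Agent.H162.GaussExcMain.exists_hom_D isType6 (K := ZMod 3) (ε := -1) (by norm_num) rt.1 rt.2.1
    rt.2.2.1 rt.2.2.2
  obtain ⟨φ', hφ'⟩ := Cfsg.Agent.H162.GaussExcMain.exists_hom_D isType6 (K := K') (ε := -1) (by norm_num) rt.1 rt.2.1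
    rt.2.2.1 rt.2.2.2
  have B : Bk isType6 i {k | k ∈ J5} 4 r j6 φ φ' (fun _ _ => ((-1 : ℤ) : ZMod 3)) :=
    { simp := ⟨r_simple.1, r_simple.2⟩
      rlt := chkN.tab.rlt
      rJ := chkN.tab.rJ
      hφ := hφ
      hφ' := fun a b hab c => by rw [hφ' a b hab c, map_intCast]
      ss := fun a => by norm_num }
  -- the element of `SL_6(3)`
  have hdet : (T * (dl (ZMod 3)).1).det = 1 := by rw [Matrix.det_mul, S.det, det_dl]; norm_num
  obtain ⟨C, hC⟩ : ∃ C : SpecialLinearGroup (Fin 6) (ZMod 3), C.1 = T * (dl (ZMod 3)).1 := ⟨⟨_, hdet⟩, rfl⟩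
  have hT : T = C.1 * (dl (ZMod 3)).1 := by rw [hC, mul_assoc, dl_sq, mul_one]
  have hCC := coe_mi C
  have hCC' := coe_im C
  obtain ⟨d, hd⟩ : ∃ d, d = dt (ZMod 3) := ⟨_, rfl⟩
  have hdm : d ∈ TT chevE6 (ZMod 3) := hd ▸ dt_mem
  have hd2 : d * d = 1 := by
    have h1 := Cfsg.Agent.H194.Pw.sg_pow (K := ZMod 3) isType6 ![0, 1, 0, 0, 0, 0] (-1)
    rw [Nat.card_zmod, show 3 - 1 = 2 from rfl, pow_two] at h1
    rw [hd]
    exact h1
  have hdc : ∀ A, d * φ A * d⁻¹ = φ (gc (dl (ZMod 3)) A) := conj_t hφ hdm fun a b hab => by rw [hd]; exact ch_dt_r hab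
  have hmem : φ C * d ∈ LJ CoxeterMatrix.E₆.toCoxeterSystem isType6.isCartan (TT chevE6 (ZMod 3)) (XX chevE6 6 (ZMod 3))
      {k | k ∈ J5} :=
    mul_mem (phi_mem isType6 chkN.tab hφ C) (T_le_LJ hdm)
  obtain ⟨A, hA⟩ := S.diag
  have hAA' := coe_im A
  -- the order
  have hpow : (φ C * d) ^ 242 = 1 := by
    have h1 : (φ C * d) * (φ C * d) = φ (C * gc (dl (ZMod 3)) C) := by
      rw [map_mul, ← hdc]
      calc φ C * d * (φ C * d) = φ C * (d * φ C * d⁻¹) * (d * d) := by group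
        _ = _ := by rw [hd2, mul_one]
    have h2 : (C * gc (dl (ZMod 3)) C).1 = T * T := by
      change C.1 * ((dl (ZMod 3)).1 * C.1 * (dl (ZMod 3)).1) = _
      rw [hT]
      simp only [mul_assoc]
    have h3 : T ^ 242 = 1 := by
      apply Matrix.map_injective i.injective
      have e1 : (T ^ 242).map i = (T.map i) ^ 242 := map_pow i.mapMatrix T 242
      have e2 : T.map i = (((A⁻¹ : SpecialLinearGroup (Fin 6) K') : GL (Fin 6) K') : Matrix (Fin 6) (Fin 6) K') *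
          Matrix.diagonal lam *
          (((((A⁻¹ : SpecialLinearGroup (Fin 6) K') : GL (Fin 6) K'))⁻¹ : GL (Fin 6) K') : Matrix (Fin 6) (Fin 6) K') := by
        change _ = (A⁻¹).1 * Matrix.diagonal lam * ((A⁻¹)⁻¹).1
        rw [inv_inv, ← hA]
        calc T.map i = ((A⁻¹).1 * A.1) * T.map i * ((A⁻¹).1 * A.1) := by rw [hAA', one_mul, mul_one]
          _ = _ := by simp only [mul_assoc]
      have e3 : (Matrix.diagonal lam) ^ 242 = (1 : Matrix (Fin 6) (Fin 6) K') := by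
        rw [Matrix.diagonal_pow, ← Matrix.diagonal_one]
        congr 1
        funext a
        exact S.pow a
      have e4 : (T ^ 242).map i = 1 := by
        rw [e1, e2, Cfsg.Agent.H85.Pw.conj_pow', e3, mul_one, ← Units.val_mul, mul_inv_cancel, Units.val_one]
      exact e4.trans (Matrix.map_one _ (map_zero i) (map_one i)).symm
    rw [show 242 = 2 * 121 from rfl, pow_mul, pow_two, h1, ← map_pow]
    have h4 : (C * gc (dl (ZMod 3)) C) ^ 121 = 1 := by
      apply pow_one_of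
      rw [h2, ← pow_two, ← pow_mul]
      exact h3
    rw [h4, map_one]
  -- the fixed points
  have hnf : NF (VJ CoxeterMatrix.E₆.toCoxeterSystem isType6.isCartan (XX chevE6 6 (ZMod 3)) {k | k ∈ J5}) (φ C * d) ∧
      NF (VNJ CoxeterMatrix.E₆.toCoxeterSystem isType6.isCartan (XX chevE6 6 (ZMod 3)) {k | k ∈ J5}) (φ C * d) := by
    have hμ : ∏ b, (lam b * ((e6 b : ℤ) : K')) = 1 := by
      rw [Finset.prod_mul_distrib, S.prod, prod_e6]; norm_num
    obtain ⟨k1, k2⟩ := B.diag isType6 hμ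
    have hbd : bc chevE6 i d ∈ TT chevE6 K' := bc_TT isType6 i hdm
    have hbc : ∀ X, bc chevE6 i d * φ' X * (bc chevE6 i d)⁻¹ = φ' (gc (dl K') X) := conj_t hφ' hbd fun a b hab => by
      rw [ch_bc isType6 i (chkN.tab.rlt a b hab) hdm, hd, ch_dt_r hab, map_intCast]
    refine nf_gen isType6 3 i (y := φ' A) (t := φ' (dgl _ hμ) * bc chevE6 i d) (B.mem isType6 A) ?_ (mul_mem k1 hbd) ?_
    · have h1 : dgl _ hμ = A * Matrix.SpecialLinearGroup.map i C * gc (dl K') A⁻¹ := by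
        apply Subtype.ext
        change Matrix.diagonal _ = A.1 * C.1.map i * ((dl K').1 * (A⁻¹).1 * (dl K').1)
        have e1 : (dl (ZMod 3)).1.map i = (dl K').1 := by
          change (Matrix.diagonal _).map i = Matrix.diagonal _
          rw [Matrix.diagonal_map (map_zero i)]
          congr 1
          funext a
          exact map_intCast i _
        have e2 : C.1.map i = T.map i * (dl K').1 := by rw [hC, Matrix.map_mul, e1]
        have e3 : Matrix.diagonal (fun b => lam b * ((e6 b : ℤ) : K')) = Matrix.diagonal lam * (dl K').1 := by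
          change _ = Matrix.diagonal _ * Matrix.diagonal _
          rw [Matrix.diagonal_mul_diagonal]
        rw [e2, e3, ← hA]
        calc A.1 * T.map i * (A⁻¹).1 * (dl K').1
            = A.1 * (T.map i * ((dl K').1 * (dl K').1)) * ((A⁻¹).1 * (dl K').1) := by
              rw [dl_sq, mul_one]; simp only [mul_assoc]
          _ = _ := by simp only [mul_assoc]
      rw [h1, map_mul φ', map_mul φ', ← hbc, ← B.bc_phi, map_mul (bc chevE6 i), map_inv φ']
      group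
    · intro q hq hk
      rw [ch_mul isType6 hq k1 hbd, k2 q hq, ch_bc isType6 i hq hdm, hd, ch_dt hq]
      have h1 := hout S hq hk
      rwa [show i (((-1 : (ZMod 3)ˣ) ^ chevE6.cartan 1 q : (ZMod 3)ˣ) : ZMod 3) = (-1 : K') ^ chevE6.cartan 1 q by
        rw [Units.val_zpow_eq_zpow_val, map_zpow₀, Units.val_neg, Units.val_one, map_neg, map_one]]
  refine ⟨φ, φ C * d, hφ, hpow, hmem, hnf.1, hnf.2, fun L hL U hU => ?_⟩
  -- the factorisation
  have h1 : T * ((dl (ZMod 3)).1 * (C⁻¹).1) = 1 := by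
    rw [hT]
    calc C.1 * (dl (ZMod 3)).1 * ((dl (ZMod 3)).1 * (C⁻¹).1) = C.1 * ((dl (ZMod 3)).1 * (dl (ZMod 3)).1) * (C⁻¹).1 := by
          simp only [mul_assoc]
      _ = 1 := by rw [dl_sq, mul_one, hCC]
  have h2 : ((dl (ZMod 3)).1 * (C⁻¹).1) * T = 1 := by
    rw [hT]
    calc (dl (ZMod 3)).1 * (C⁻¹).1 * (C.1 * (dl (ZMod 3)).1) = (dl (ZMod 3)).1 * ((C⁻¹).1 * C.1) * (dl (ZMod 3)).1 := by
          simp only [mul_assoc]
      _ = 1 := by rw [hCC', mul_one, dl_sq]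
  obtain ⟨g, h, e⟩ := gl_lu (by rw [Nat.card_zmod]) (by norm_num) S.nice h1 h2 hL hU
  refine ⟨g, h, ?_⟩
  have h3 : L * U = g * C * gc (dl (ZMod 3)) (g⁻¹ * h) * C⁻¹ * h⁻¹ := by
    apply Subtype.ext
    rw [e, hT]
    change _ = g.1 * C.1 * ((dl (ZMod 3)).1 * ((g⁻¹).1 * h.1) * (dl (ZMod 3)).1) * (C⁻¹).1 * (h⁻¹).1
    simp only [mul_assoc]
  rw [h3, map_mul, map_mul, map_mul, map_mul, ← hdc, map_mul, map_inv, map_inv, map_inv]
  group

/-- **`E₆(3)`.** -/
theorem all_zmod : All 3 ↥(chevE6.group (ZMod 3)) := by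
  have hF : Fact (Nat.Prime 3) := ⟨Nat.prime_three⟩
  have := finite_W isType6 CoxeterMatrix.E₆.toCoxeterSystem
  obtain ⟨φ, c, hφ, hc, hmem, hV, hVN, hf⟩ := exists_c
  have R := rgd (K := ZMod 3) isType6 CoxeterMatrix.E₆.toCoxeterSystem 3
  have hs : ∀ a b : Fin 6, (fun _ _ : Fin 6 => ((-1 : ℤ) : ZMod 3)) a b ≠ 0 := fun _ _ => by simp
  have hU : UJ CoxeterMatrix.E₆.toCoxeterSystem isType6.isCartan (XX chevE6 6 (ZMod 3)) {k | k ∈ J5} ≤
      (UT 6 (ZMod 3)).map φ :=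
    RGD.Sup_le fun x hx => up_phi isType6 chkN.tab (s := fun _ _ => ((-1 : ℤ) : ZMod 3)) hs hφ x hx
  have hUN : UNJ CoxeterMatrix.E₆.toCoxeterSystem isType6.isCartan (XX chevE6 6 (ZMod 3)) {k | k ∈ J5} ≤
      (LT 6 (ZMod 3)).map φ :=
    RGD.Sup_le fun x hx => by
      have := lo_phi isType6 chkN.tab (s := fun _ _ => ((-1 : ℤ) : ZMod 3)) hs hφ (-x) hx
      rwa [_root_.neg_neg] at this
  have hg : ∀ g, φ g ∈ LJ CoxeterMatrix.E₆.toCoxeterSystem isType6.isCartan (TT chevE6 (ZMod 3)) (XX chevE6 6 (ZMod 3))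
      {k | k ∈ J5} := fun g => phi_mem isType6 chkN.tab hφ g
  have ho : ∀ x y : ↥(chevE6.group (ZMod 3)), (orderOf (x * (y * c * y⁻¹) * x⁻¹)).Coprime 3 ∧
      (orderOf (x * (y * c⁻¹ * y⁻¹) * x⁻¹)).Coprime 3 := by
    intro x y
    constructor
    · refine Nat.Coprime.of_dvd_left (orderOf_dvd_of_pow_eq_one (n := 242) ?_) (by norm_num)
      rw [conj_pow, conj_pow, hc, mul_one, mul_inv_cancel, mul_one, mul_inv_cancel]
    · refine Nat.Coprime.of_dvd_left (orderOf_dvd_of_pow_eq_one (n := 242) ?_) (by norm_num)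
      rw [conj_pow, conj_pow, inv_pow, hc, inv_one, mul_one, mul_inv_cancel, mul_one, mul_inv_cancel]
  refine fun g => all_of isType6 3 (Cfsg.Agent.S1054.result chevE6 (by simp)) (fun g hg' => ?_) g
  rcases hg' with hg' | rfl
  · obtain ⟨c₁, c₂, x, y, ⟨⟨u, h1⟩, ⟨v, h2⟩⟩, h3⟩ := pair R (G1_eq_top isType6 _) (coord isType6)
      (Cfsg.Agent.Nodes.ChevChart.irr_of Cfsg.Agent.Nodes.ChevChart.irr6) (J := {k | k ∈ J5})
      (Pr := fun c₁ c₂ => (∃ u, c₁ = u * c * u⁻¹) ∧ ∃ v, c₂ = v * c⁻¹ * v⁻¹) (fun v hv u hu => by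
        obtain ⟨L, hL, rfl⟩ := hUN hv
        obtain ⟨U, hU', rfl⟩ := hU hu
        obtain ⟨g, h, e⟩ := hf L hL U hU'
        rw [map_mul] at e
        refine ⟨_, _, e, ⟨?_, ?_, ?_, ?_⟩, ⟨_, rfl⟩, ⟨_, rfl⟩⟩
        · exact mul_mem (mul_mem (hg g) hmem) (inv_mem (hg g))
        · exact mul_mem (mul_mem (hg h) (inv_mem hmem)) (inv_mem (hg h))
        · exact Cfsg.Agent.H928.Ore.Fix.NF.conj (LJ_le_normalizer_VNJ R {k | k ∈ J5} (hg g)) hVN
        · exact Cfsg.Agent.H928.Ore.Fix.NF.conj (LJ_le_normalizer_VJ R {k | k ∈ J5} (hg h))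
            (Cfsg.Agent.H928.Ore.Fix.NF.inv hV)) hg'
    rw [h1, h2] at h3
    exact ⟨_, _, h3, (ho x u).1, (ho y v).2⟩
  · exact ⟨1, 1, by rw [mul_one], by rw [orderOf_one]; norm_num, by rw [orderOf_one]; norm_num⟩

/-- **`E₆(3)`.** -/
theorem all_E6_three {K : Type*} [Field K] (hK : Nat.card K = 3) : All 3 ↥(chevE6.group K) := by
  have : Finite K := Nat.finite_of_card_ne_zero (by rw [hK]; norm_num)
  have := Fintype.ofFinite K
  let e : ZMod 3 ≃+* K := ZMod.ringEquivOfPrime K Nat.prime_three (by rw [← Nat.card_eq_fintype_card, hK])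
  let f := Cfsg.Agent.ChevalleyStructure.FieldIso.groupEquiv chevE6 e
  intro g
  obtain ⟨a, b, h1, h2, h3⟩ := all_zmod (f.symm g)
  refine ⟨f a, f b, ?_, by rw [MulEquiv.orderOf_eq]; exact h2, by rw [MulEquiv.orderOf_eq]; exact h3⟩
  rw [← map_mul, ← h1, MulEquiv.apply_symm_apply]

end Cfsg.Agent.H584.War.SixThree
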