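import Cfsg.Agent.H584.War.Blk
import Cfsg.Agent.H584.War.Tor
import Cfsg.Agent.H584.War.Eight
import Cfsg.Agent.H584.War.SixThree
import Cfsg.Agent.H584.War.FourTwo
import Cfsg.Agent.H584.War.Num
import Cfsg.Agent.H584.Ore.ESixTwo
import Cfsg.Agent.H267.Ore.ESevenPw
import Cfsg.Agent.H194.Pw.Own

/-!
# The rows `E_8`, `E_7`, `E_6`, `F_4`, `G_2` of S2453
-/

set_option autoImplicit false

namespace Cfsg.Agent.H584.War.Rows

open Cfsg.Lie
open Cfsg.Agent.H130.War Cfsg.Agent.H584.War.Num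
open Cfsg.Agent.H134.War (KL)
open Cfsg.Agent.H78.Pw (All)

/-- the data -/
theorem exists_char (K : Type*) [Field K] [Finite K] : ∃ (p : ℕ) (_ : Fact p.Prime) (_ : CharP K p) (n : ℕ),
    n ≠ 0 ∧ Nat.card K = p ^ n := by
  obtain ⟨p, hpc⟩ := CharP.exists K
  have := Fintype.ofFinite K
  obtain ⟨n, hp, hn⟩ := FiniteField.card K p
  exact ⟨p, ⟨hp⟩, hpc, n, n.ne_zero, by rw [Nat.card_eq_fintype_card, hn]⟩

theorem SS.of_all {p : ℕ} {G : Type*} [Group G] (h : All p G) : SS p 1 G := by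
  intro g
  obtain ⟨a, b, h1, h2, h3⟩ := h g
  exact ⟨a, b, by rw [pow_one, pow_one, h1], h2, h3⟩

/-- the common part of the rows -/
theorem row {G : Type*} [Group G] {p k l : ℕ} (hp : p.Prime) (hP : PP p G)
    (hS : p ∣ k ∨ p ∣ l → SS p (ee p k l) G) : KL G k l := by
  by_cases hd : p ∣ k ∨ p ∣ l
  · exact SS.kl' (hS hd)
  · exact PP.kl hp hP (fun h => hd (.inl h)) fun h => hd (.inr h)

/-! ### `E₈` -/

theorem kl_E8 {K : Type*} [Field K] [Finite K] (k l : ℕ) (hk : 2 ≤ k) (hl : 2 ≤ l) (hg : ¬ k.Coprime l)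
    (hbig : (max k l) ^ (8 * (max k l) ^ 2) ≤ Nat.card ↥(chevE8.group K)) : KL ↥(chevE8.group K) k l := by
  obtain ⟨p, hp, hc, n, hn, hq⟩ := exists_char K
  refine row hp.out (Tor.pp_E8 K p) fun hd => ?_
  have hb := hbig.trans (card_E8 K)
  have he0 : ee p k l ≠ 0 := ee_ne_zero (by omega) (by omega)
  have h2 : 2 ≤ Nat.card K := Finite.one_lt_card
  rcases Nat.lt_or_ge (max k l) 6 with hm | hm
  · rw [ee_eq_one hp.out hk hl hg (by omega) hd]
    rcases Nat.lt_or_ge (Nat.card K) 3 with h3 | h3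
    · have hK : Nat.card K = 2 := by omega
      have hp2 : p = 2 := by
        rw [hK] at hq
        exact ((Nat.prime_dvd_prime_iff_eq hp.out Nat.prime_two).1 (hq ▸ dvd_pow_self p hn))
      rw [hp2]
      exact SS.of_all (Eight.own_E8_two hK)
    · exact Blk.ss_E8 K p one_ne_zero (by omega)
  · refine Blk.ss_E8 K p he0 ?_
    rcases Nat.lt_or_ge (max k l) 8 with hm' | hm'
    · have h1 := ee_mul_le hp.out hk hl hg (by omega) hd
      have h3 := big_eight' hm hb
      rcases Nat.lt_or_ge p 3 with hp3 | hp3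
      · have hp2 : p = 2 := by have := hp.out.two_le; omega
        rw [hp2] at h1 hq
        have h4 : 3 ≤ n := by
          by_contra h5
          have : 2 ^ n ≤ 2 ^ 2 := Nat.pow_le_pow_right (by norm_num) (by omega)
          omega
        have h5 : 2 ^ 3 ≤ 2 ^ n := Nat.pow_le_pow_right (by norm_num) h4
        subst hp2
        omega
      · have h4 : ee p k l * 3 ≤ ee p k l * p := Nat.mul_le_mul_left _ hp3
        omega
    · have h1 := big_eight hm' hb
      have h3 := ee_le (p := p) (by omega) hg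
      have h4 : 64 ≤ (max k l) ^ 2 := by nlinarith
      omega

/-! ### `E₇` -/

theorem kl_E7 {K : Type*} [Field K] [Finite K] (k l : ℕ) (hk : 2 ≤ k) (hl : 2 ≤ l) (hg : ¬ k.Coprime l)
    (hbig : (max k l) ^ (8 * (max k l) ^ 2) ≤ Nat.card ↥(chevE7.group K)) : KL ↥(chevE7.group K) k l := by
  obtain ⟨p, hp, hc, n, hn, hq⟩ := exists_char K
  refine row hp.out (Tor.pp_E7 K p) fun hd => ?_
  have hb := hbig.trans (card_E7 K)
  have he0 : ee p k l ≠ 0 := ee_ne_zero (by omega) (by omega)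
  have h2 : 2 ≤ Nat.card K := Finite.one_lt_card
  rcases Nat.lt_or_ge (max k l) 6 with hm | hm
  · rw [ee_eq_one hp.out hk hl hg (by omega) hd]
    rcases Nat.lt_or_ge (Nat.card K) 3 with h3 | h3
    · have hK : Nat.card K = 2 := by omega
      have hp2 : p = 2 := by
        rw [hK] at hq
        exact ((Nat.prime_dvd_prime_iff_eq hp.out Nat.prime_two).1 (hq ▸ dvd_pow_self p hn))
      rw [hp2]
      have := Fintype.ofFinite K
      exact SS.of_all (Cfsg.Agent.H267.Ore.all_E7_two (by rw [← Nat.card_eq_fintype_card, hK]) (by norm_num))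
    · exact Blk.ss_E7 K p one_ne_zero (by omega)
  · refine Blk.ss_E7 K p he0 ?_
    have h1 := big_seven hm hb
    have h3 := ee_le (p := p) (by omega) hg
    have h4 : 36 ≤ (max k l) ^ 2 := by nlinarith
    omega

/-! ### `E₆` -/

/-- `E₆(2)` -/
theorem all_E6_two {K : Type*} [Field K] (hK : Nat.card K = 2) : All 2 ↥(chevE6.group K) := by
  obtain ⟨e⟩ := Cfsg.Agent.H584.Ore.ESix.exists_iso hK
  obtain ⟨c, z, -, -, hc, h⟩ := Cfsg.Agent.H584.Ore.ESixTwo.exists_data
  let f := Cfsg.Agent.ChevalleyStructure.FieldIso.groupEquiv chevE6 e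
  have key : ∀ x : ↥(chevE6.group (ZMod 2)), (orderOf (f (x * c * x⁻¹))).Coprime 2 := by
    intro x
    refine Nat.Coprime.of_dvd_left ?_ (by norm_num : Nat.Coprime 21 2)
    rw [MulEquiv.orderOf_eq]
    refine dvd_trans ?_ hc
    rw [show x * c * x⁻¹ = MulAut.conj x c from rfl, MulEquiv.orderOf_eq]
  intro g
  obtain ⟨x, y, h1⟩ := h (f.symm g)
  refine ⟨f (x * c * x⁻¹), f (y * c * y⁻¹), ?_, key x, key y⟩
  rw [← map_mul, ← h1, MulEquiv.apply_symm_apply]

theorem kl_E6_of {K : Type*} [Field K] [Finite K] (h3' : Nat.card K = 3 → All 3 ↥(chevE6.group K)) (k l : ℕ)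
    (hk : 2 ≤ k) (hl : 2 ≤ l) (hg : ¬ k.Coprime l)
    (hbig : (max k l) ^ (8 * (max k l) ^ 2) ≤ Nat.card ↥(chevE6.group K)) : KL ↥(chevE6.group K) k l := by
  obtain ⟨p, hp, hc, n, hn, hq⟩ := exists_char K
  refine row hp.out (Tor.pp_E6 K p) fun hd => ?_
  have hb := hbig.trans (card_E6 K)
  have he0 : ee p k l ≠ 0 := ee_ne_zero (by omega) (by omega)
  have h2 : 2 ≤ Nat.card K := Finite.one_lt_card
  rcases Nat.lt_or_ge (max k l) 6 with hm | hm
  · rw [ee_eq_one hp.out hk hl hg (by omega) hd]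
    rcases Nat.lt_or_ge (Nat.card K) 4 with h3 | h3
    · rcases (by omega : Nat.card K = 2 ∨ Nat.card K = 3) with hK | hK
      · have hp2 : p = 2 := by
          rw [hK] at hq
          exact ((Nat.prime_dvd_prime_iff_eq hp.out Nat.prime_two).1 (hq ▸ dvd_pow_self p hn))
        rw [hp2]
        exact SS.of_all (all_E6_two hK)
      · have hp2 : p = 3 := by
          rw [hK] at hq
          exact ((Nat.prime_dvd_prime_iff_eq hp.out Nat.prime_three).1 (hq ▸ dvd_pow_self p hn))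
        rw [hp2]
        exact SS.of_all (h3' hK)
    · exact SS.of_all (Cfsg.Agent.H194.Pw.own_E6 h3 p)
  · refine Tor.ssT_E6 K p he0 ?_
    have h1 := big_six (by norm_num) (by omega) hm hb
    have h3 := ee_le (p := p) (by omega) hg
    have h4 : 36 ≤ (max k l) ^ 2 := by nlinarith
    omega

theorem kl_E6 {K : Type*} [Field K] [Finite K] (k l : ℕ) (hk : 2 ≤ k) (hl : 2 ≤ l) (hg : ¬ k.Coprime l)
    (hbig : (max k l) ^ (8 * (max k l) ^ 2) ≤ Nat.card ↥(chevE6.group K)) : KL ↥(chevE6.group K) k l :=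
  kl_E6_of SixThree.all_E6_three k l hk hl hg hbig

/-! ### `F₄` -/

theorem kl_F4_of {K : Type*} [Field K] [Finite K] (h2' : Nat.card K = 2 → SS 2 1 ↥(chevF4.group K)) (k l : ℕ)
    (hk : 2 ≤ k) (hl : 2 ≤ l) (hg : ¬ k.Coprime l)
    (hbig : (max k l) ^ (8 * (max k l) ^ 2) ≤ Nat.card ↥(chevF4.group K)) : KL ↥(chevF4.group K) k l := by
  obtain ⟨p, hp, hc, n, hn, hq⟩ := exists_char K
  refine row hp.out (Tor.pp_F4 K p) fun hd => ?_
  have hb := hbig.trans (card_F4 K)
  have he0 : ee p k l ≠ 0 := ee_ne_zero (by omega) (by omega)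
  have h2 : 2 ≤ Nat.card K := Finite.one_lt_card
  rcases Nat.lt_or_ge (max k l) 6 with hm | hm
  · rw [ee_eq_one hp.out hk hl hg (by omega) hd]
    rcases Nat.lt_or_ge (Nat.card K) 3 with h3 | h3
    · have hK : Nat.card K = 2 := by omega
      have hp2 : p = 2 := by
        rw [hK] at hq
        exact ((Nat.prime_dvd_prime_iff_eq hp.out Nat.prime_two).1 (hq ▸ dvd_pow_self p hn))
      rw [hp2]
      exact h2' hK
    · have h4 : 4 ≤ Nat.card K := by
        rcases Nat.lt_or_ge p 3 with hp3 | hp3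
        · have hp2 : p = 2 := by have := hp.out.two_le; omega
          by_contra h5
          have hK : Nat.card K = 3 := by omega
          rw [hK, hp2] at hq
          have := (Nat.prime_dvd_prime_iff_eq Nat.prime_two Nat.prime_three).1 (hq ▸ dvd_pow_self 2 hn)
          omega
        · exact small_F4 (hp3.trans (p_le hk hl hd)) hb
      exact SS.of_all (Cfsg.Agent.H194.Pw.own_F4 h4 p)
  · refine Tor.ssT_F4 K p he0 ?_
    have h1 := big_six (by norm_num) (by omega) hm hb
    have h3 := ee_le (p := p) (by omega) hg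
    have h4 : 36 ≤ (max k l) ^ 2 := by nlinarith
    omega

theorem kl_F4 {K : Type*} [Field K] [Finite K] (k l : ℕ) (hk : 2 ≤ k) (hl : 2 ≤ l) (hg : ¬ k.Coprime l)
    (hbig : (max k l) ^ (8 * (max k l) ^ 2) ≤ Nat.card ↥(chevF4.group K)) : KL ↥(chevF4.group K) k l :=
  kl_F4_of (fun h => SS.of_all (FourTwo.all_F4_two h)) k l hk hl hg hbig

/-! ### `G₂` -/

theorem kl_G2 {K : Type*} [Field K] [Finite K] (k l : ℕ) (hk : 2 ≤ k) (hl : 2 ≤ l) (hg : ¬ k.Coprime l)
    (hbig : (max k l) ^ (8 * (max k l) ^ 2) ≤ Nat.card ↥(chevG2.group K)) : KL ↥(chevG2.group K) k l := by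
  obtain ⟨p, hp, hc, n, hn, hq⟩ := exists_char K
  have hb := hbig.trans (card_G2 K)
  have h5 := small_G2 (hk.trans (le_max_left _ _)) hb
  refine row hp.out (Tor.pp_G2 K p (by omega)) fun hd => ?_
  have he0 : ee p k l ≠ 0 := ee_ne_zero (by omega) (by omega)
  refine Tor.ssT_G2 K p he0 ?_
  rcases Nat.lt_or_ge (max k l) 6 with hm | hm
  · rw [ee_eq_one hp.out hk hl hg (by omega) hd]
    rcases Nat.lt_or_ge p 3 with hp3 | hp3
    · have hp2 : p = 2 := by have := hp.out.two_le; omega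
      rw [hp2] at hq
      have h4 : 3 ≤ n := by
        by_contra h6
        have : 2 ^ n ≤ 2 ^ 2 := Nat.pow_le_pow_right (by norm_num) (by omega)
        omega
      have h6 : 2 ^ 3 ≤ 2 ^ n := Nat.pow_le_pow_right (by norm_num) h4
      omega
    · have := small_G2' (hp3.trans (p_le hk hl hd)) hb
      omega
  · have h1 := big_six (by norm_num) (by omega) hm hb
    have h3 := ee_le (p := p) (by omega) hg
    have h4 : 36 ≤ (max k l) ^ 2 := by nlinarith
    omega

end Cfsg.Agent.H584.War.Rows
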