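import Cfsg.Agent.H934.MF.Diag
import Mathlib.RingTheory.AdjoinRoot

/-!
# Roots in `SL_n(K)` of elements with characteristic polynomial `(X - ν) p` (S2453)

`exists_root` : `c` in `SL_n(K)` with characteristic polynomial `(X - ν) p`, `p` irreducible, `p ∣ X ^ N - 1`,
`N gcd(e, |K|^m - 1) = |K|^m - 1` : then `c = b ^ e` for an element `b` of `SL_n(K)` of order prime to the characteristic.
-/

set_option autoImplicit false

namespace Cfsg.Agent.H584.War.Root

open Polynomial Matrix

/-- conjugation -/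
def cj {n : ℕ} {K : Type*} [Field K] (g : GL (Fin n) K) : Matrix (Fin n) (Fin n) K →ₐ[K] Matrix (Fin n) (Fin n) K where
  toFun A := (g : Matrix (Fin n) (Fin n) K) * A * ((g⁻¹ : GL (Fin n) K) : Matrix (Fin n) (Fin n) K)
  map_one' := by rw [mul_one, ← Units.val_mul, mul_inv_cancel, Units.val_one]
  map_mul' A B := by
    have h : ((g⁻¹ : GL (Fin n) K) : Matrix (Fin n) (Fin n) K) * (g : Matrix (Fin n) (Fin n) K) = 1 := by
      rw [← Units.val_mul, inv_mul_cancel, Units.val_one]
    calc (g : Matrix (Fin n) (Fin n) K) * (A * B) * ((g⁻¹ : GL (Fin n) K) : Matrix (Fin n) (Fin n) K)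
        = (g : Matrix (Fin n) (Fin n) K) * A * 1 * B * ((g⁻¹ : GL (Fin n) K) : Matrix (Fin n) (Fin n) K) := by
          simp only [mul_assoc, one_mul]
      _ = _ := by rw [← h]; simp only [mul_assoc]
  map_zero' := by rw [mul_zero, zero_mul]
  map_add' A B := by rw [mul_add, add_mul]
  commutes' r := by
    rw [Algebra.algebraMap_eq_smul_one, mul_smul_comm, smul_mul_assoc, mul_one, ← Units.val_mul, mul_inv_cancel,
      Units.val_one]

/-- `det f(c)` from the eigenvalues -/
theorem aeval_diag {K K' : Type*} [Field K] [Field K'] (i : K →+* K') {n : ℕ} {c : Matrix (Fin n) (Fin n) K}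
    {lam : Fin n → K'} {g : GL (Fin n) K'} (hg : c.map i = (g : Matrix (Fin n) (Fin n) K') * diagonal lam *
      ((g⁻¹ : GL (Fin n) K') : Matrix (Fin n) (Fin n) K')) (f : K[X]) :
    (aeval c f).map i = (g : Matrix (Fin n) (Fin n) K') * diagonal (fun a => (f.map i).eval (lam a)) *
      ((g⁻¹ : GL (Fin n) K') : Matrix (Fin n) (Fin n) K') := by
  have h1 : (aeval c f).map i = aeval (c.map i) (f.map i) := by
    have h2 : (aeval c f).map i = i.mapMatrix (aeval c f) := rfl
    rw [h2, aeval_def, hom_eval₂, aeval_def, eval₂_map]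
    congr 1
    refine RingHom.ext fun x => ?_
    rw [RingHom.comp_apply, RingHom.comp_apply, RingHom.mapMatrix_apply, Matrix.algebraMap_eq_diagonal,
      Matrix.algebraMap_eq_diagonal, Matrix.diagonal_map (map_zero i)]
    rfl
  have h3 : aeval (diagonal lam) (f.map i) = diagonal (fun a => (f.map i).eval (lam a)) := by
    have h4 : diagonal lam = Matrix.diagonalAlgHom (n := Fin n) (α := K') K' lam := rfl
    rw [h4, aeval_algHom_apply]
    change diagonal _ = _
    congr 1
    funext a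
    have h5 := aeval_algHom_apply (Pi.evalAlgHom K' (fun _ : Fin n => K') a) lam (f.map i)
    rw [Pi.evalAlgHom_apply] at h5
    rw [Pi.evalAlgHom_apply] at h5
    rw [← h5, coe_aeval_eq_eval]
  rw [h1, hg, ← h3]
  exact aeval_algHom_apply (cj g) (diagonal lam) (f.map i)

/-- elements of order dividing `n / gcd(e, n)` in a cyclic group of order `n` are `e`-th powers -/
theorem exists_pow {G : Type*} [Group G] [Finite G] [IsCyclic G] {e N : ℕ}
    (hN : N * Nat.gcd e (Nat.card G) = Nat.card G) {x : G} (hx : x ^ N = 1) : ∃ w : G, w ^ e = x := by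
  obtain ⟨g, hg⟩ := IsCyclic.exists_generator (α := G)
  obtain ⟨j, rfl⟩ := Subgroup.mem_zpowers_iff.1 (hg x)
  have ho : orderOf g = Nat.card G := orderOf_eq_card_of_forall_mem_zpowers hg
  have hc : 0 < Nat.card G := Nat.card_pos
  have hN0 : (N : ℤ) ≠ 0 := by
    rintro h
    rw [Nat.cast_eq_zero.1 h, zero_mul] at hN
    omega
  have h1 : (orderOf g : ℤ) ∣ j * N := by
    rw [orderOf_dvd_iff_zpow_eq_one, _root_.zpow_mul, zpow_natCast, hx]
  have h2 : ((Nat.gcd e (Nat.card G) : ℕ) : ℤ) ∣ j := by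
    rw [ho, ← hN, Nat.cast_mul, mul_comm j] at h1
    exact Int.dvd_of_mul_dvd_mul_left hN0 h1
  obtain ⟨k, hk⟩ := h2
  refine ⟨g ^ (Nat.gcdA e (Nat.card G) * k), ?_⟩
  have h3 := Nat.gcd_eq_gcd_ab e (Nat.card G)
  have h4 : j = Nat.gcdA e (Nat.card G) * k * e + (Nat.card G : ℤ) * (Nat.gcdB e (Nat.card G) * k) := by
    rw [hk, h3]; ring
  rw [← zpow_natCast, ← _root_.zpow_mul, h4, _root_.zpow_add, _root_.zpow_mul g (Nat.card G : ℤ), zpow_natCast g (Nat.card G),
    ← ho, pow_orderOf_eq_one, _root_.one_zpow, mul_one]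

/-- the root modulo `p` -/
theorem exists_root_mod {K : Type*} [Field K] [Finite K] {p : K[X]} (hp : Irreducible p) {e N : ℕ}
    (hN : N * Nat.gcd e (Nat.card K ^ p.natDegree - 1) = Nat.card K ^ p.natDegree - 1) (hd : p ∣ X ^ N - 1) :
    ∃ g : K[X], p ∣ g ^ e - X := by
  have : Fact (Irreducible p) := ⟨hp⟩
  have hp0 : p ≠ 0 := hp.ne_zero
  let pb := AdjoinRoot.powerBasis hp0
  have hfin : Module.Finite K (AdjoinRoot p) := pb.finite
  have : Finite (AdjoinRoot p) := Module.finite_of_finite K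
  have hcard : Nat.card (AdjoinRoot p) = Nat.card K ^ p.natDegree := by
    rw [Module.natCard_eq_pow_finrank (K := K) (V := AdjoinRoot p), pb.finrank, AdjoinRoot.powerBasis_dim]
  have hu : Nat.card (AdjoinRoot p)ˣ = Nat.card K ^ p.natDegree - 1 := by rw [Nat.card_units, hcard]
  have hx : (AdjoinRoot.root p) ^ N = 1 := by
    have h1 : AdjoinRoot.mk p (X ^ N - 1) = 0 := AdjoinRoot.mk_eq_zero.2 hd
    rw [map_sub, map_pow, AdjoinRoot.mk_X, map_one, sub_eq_zero] at h1
    exact h1
  have hN0 : N ≠ 0 := by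
    rintro rfl
    rw [zero_mul] at hN
    have h1 : 1 < Nat.card K := Finite.one_lt_card
    have h2 : 1 < Nat.card K ^ p.natDegree := Nat.one_lt_pow (hp.natDegree_pos.ne') h1
    omega
  obtain ⟨x, hx'⟩ : ∃ x : (AdjoinRoot p)ˣ, (x : AdjoinRoot p) = AdjoinRoot.root p :=
    ⟨Units.ofPowEqOne _ N hx hN0, rfl⟩
  have hxN : x ^ N = 1 := Units.ext (by rw [Units.val_pow_eq_pow_val, hx', hx, Units.val_one])
  obtain ⟨w, hw⟩ := exists_pow (G := (AdjoinRoot p)ˣ) (e := e) (N := N) (by rw [hu]; exact hN) hxN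
  obtain ⟨g, hg⟩ := AdjoinRoot.mk_surjective (w : AdjoinRoot p)
  refine ⟨g, AdjoinRoot.mk_eq_zero.1 ?_⟩
  rw [map_sub, map_pow, AdjoinRoot.mk_X, hg, ← Units.val_pow_eq_pow_val, hw, hx', sub_self]

/-- **Roots.** -/
theorem exists_root {K K' : Type*} [Field K] [Finite K] [Field K'] [Finite K'] (i : K →+* K') {n : ℕ}
    (c : SpecialLinearGroup (Fin n) K) {ν : K} {p : K[X]} (hp : Irreducible p) (hν : p.eval ν ≠ 0)
    (hc : c.1.charpoly = (X - C ν) * p) {lam : Fin n → K'} (hinj : Function.Injective lam)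
    (hs : ((X - C ν) * p).map i = ∏ a, (X - C (lam a))) {e N : ℕ} (he : e ≠ 0)
    (hN : N * Nat.gcd e (Nat.card K ^ p.natDegree - 1) = Nat.card K ^ p.natDegree - 1) (hlam : ∀ a, lam a ^ N = 1) :
    ∃ b : SpecialLinearGroup (Fin n) K, b ^ e = c ∧ b ^ (Nat.card K' - 1) = 1 := by
  classical
  have hN0 : N ≠ 0 := by
    rintro rfl
    rw [zero_mul] at hN
    have h1 : 1 < Nat.card K := Finite.one_lt_card
    have h2 : 1 < Nat.card K ^ p.natDegree := Nat.one_lt_pow (hp.natDegree_pos.ne') h1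
    omega
  have hl0 : ∀ a, lam a ≠ 0 := fun a h => by
    have := hlam a
    rw [h, zero_pow hN0] at this
    exact zero_ne_one this
  obtain ⟨g, hg⟩ := Cfsg.Agent.H934.MF.diag_map i c.1 hinj (by rw [hc, hs])
  -- the roots
  have hroots : ∀ a, lam a = i ν ∨ (p.map i).eval (lam a) = 0 := by
    intro a
    have h1 : (((X - C ν) * p).map i).eval (lam a) = 0 := by
      rw [hs, eval_prod]
      exact Finset.prod_eq_zero (Finset.mem_univ a) (by rw [eval_sub, eval_X, eval_C, sub_self])
    rw [Polynomial.map_mul, eval_mul, Polynomial.map_sub, map_X, map_C, eval_sub, eval_X, eval_C] at h1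
    rcases mul_eq_zero.1 h1 with h2 | h2
    · exact .inl (sub_eq_zero.1 h2)
    · exact .inr h2
  obtain ⟨a₀, ha₀⟩ : ∃ a₀, lam a₀ = i ν := by
    have h1 : (((X - C ν) * p).map i).eval (i ν) = 0 := by
      rw [Polynomial.map_mul, eval_mul, Polynomial.map_sub, map_X, map_C, eval_sub, eval_X, eval_C, sub_self, zero_mul]
    rw [hs, eval_prod, Finset.prod_eq_zero_iff] at h1
    obtain ⟨a, -, ha⟩ := h1
    rw [eval_sub, eval_X, eval_C, sub_eq_zero] at ha
    exact ⟨a, ha.symm⟩
  have hrt : ∀ a, a ≠ a₀ → (p.map i).eval (lam a) = 0 := fun a ha =>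
    (hroots a).resolve_left fun h => ha (hinj (h.trans ha₀.symm))
  have hpN : p ∣ X ^ N - 1 := by
    rw [← Polynomial.map_dvd_map' i]
    have h0 : p.map i = ∏ a ∈ Finset.univ.erase a₀, (X - C (lam a)) := by
      have h1 : (X - C (i ν)) * p.map i = (X - C (i ν)) * ∏ a ∈ Finset.univ.erase a₀, (X - C (lam a)) := by
        have h2 : (X - C (i ν)) * p.map i = ((X - C ν) * p).map i := by
          rw [Polynomial.map_mul, Polynomial.map_sub, map_X, map_C]
        rw [h2, hs, ← ha₀, Finset.mul_prod_erase Finset.univ (fun a => X - C (lam a)) (Finset.mem_univ a₀)]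
      exact mul_left_cancel₀ (X_sub_C_ne_zero _) h1
    rw [h0]
    refine Finset.prod_dvd_of_coprime ?_ fun a _ => dvd_iff_isRoot.2 ?_
    · intro a _ b _ hab
      exact isCoprime_X_sub_C_of_isUnit_sub (sub_ne_zero.2 (fun h => hab (hinj h))).isUnit
    · rw [IsRoot, Polynomial.map_sub, Polynomial.map_pow, map_X, Polynomial.map_one, eval_sub, eval_pow, eval_X,
        eval_one, hlam, sub_self]
  obtain ⟨g₀, hg₀⟩ := exists_root_mod hp hN hpN
  -- the determinants
  let P : K' := ∏ a ∈ Finset.univ.erase a₀, (g₀.map i).eval (lam a)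
  have hPe : ∀ a, a ≠ a₀ → ((g₀.map i).eval (lam a)) ^ e = lam a := by
    intro a ha
    obtain ⟨q, hq⟩ := hg₀
    have h1 := congrArg (fun f : K[X] => (f.map i).eval (lam a)) hq
    simp only [Polynomial.map_sub, Polynomial.map_pow, map_X, Polynomial.map_mul, eval_sub, eval_pow, eval_X, eval_mul,
      hrt a ha, zero_mul] at h1
    exact sub_eq_zero.1 h1
  have hP : P ^ e = ∏ a ∈ Finset.univ.erase a₀, lam a := by
    rw [← Finset.prod_pow]
    exact Finset.prod_congr rfl fun a ha => hPe a (Finset.ne_of_mem_erase ha)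
  have hdet : ∀ s : K, ∃ f : K[X], f.eval ν = s ∧ p ∣ f - g₀ ∧ i (aeval c.1 f).det = i s * P := by
    intro s
    let f : K[X] := g₀ + C ((s - g₀.eval ν) / p.eval ν) * p
    have hf1 : f.eval ν = s := by
      simp only [f, eval_add, eval_mul, eval_C]
      rw [div_mul_cancel₀ _ hν]; ring
    have hf2 : p ∣ f - g₀ := ⟨C ((s - g₀.eval ν) / p.eval ν), by simp only [f]; ring⟩
    refine ⟨f, hf1, hf2, ?_⟩
    have h1 : i (aeval c.1 f).det = ((aeval c.1 f).map i).det := by
      rw [← RingHom.mapMatrix_apply, ← RingHom.map_det]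
    rw [h1, aeval_diag i hg f, det_mul, det_mul, mul_right_comm, ← det_mul, ← Units.val_mul, mul_inv_cancel,
      Units.val_one, det_one, one_mul, det_diagonal, ← Finset.mul_prod_erase Finset.univ _ (Finset.mem_univ a₀), ha₀]
    congr 1
    · rw [eval_map_apply, hf1]
    · refine Finset.prod_congr rfl fun a ha => ?_
      obtain ⟨q, hq⟩ := hf2
      have h2 := congrArg (fun f : K[X] => (f.map i).eval (lam a)) hq
      simp only [Polynomial.map_sub, Polynomial.map_mul, eval_sub, eval_mul, hrt a (Finset.ne_of_mem_erase ha),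
        zero_mul] at h2
      exact sub_eq_zero.1 h2
  obtain ⟨f₁, -, -, h1⟩ := hdet 1
  rw [map_one, one_mul] at h1
  have hprod : ∏ a, lam a = 1 := by
    obtain h2 : i c.1.det = (c.1.map i).det := by rw [← RingHom.mapMatrix_apply, ← RingHom.map_det]
    rw [c.2, map_one, hg, det_mul, det_mul, mul_right_comm, ← det_mul, ← Units.val_mul, mul_inv_cancel,
      Units.val_one, det_one, one_mul, det_diagonal] at h2
    exact h2.symm
  have hνP : i ν * P ^ e = 1 := by
    rw [hP, ← ha₀, Finset.mul_prod_erase Finset.univ lam (Finset.mem_univ a₀), hprod]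
  have hP0 : P ≠ 0 := fun h => by
    rw [h, zero_pow he, mul_zero] at hνP
    exact zero_ne_one hνP
  obtain ⟨δ, hδ⟩ : ∃ δ, δ = (aeval c.1 f₁).det := ⟨_, rfl⟩
  rw [← hδ] at h1
  have hδ0 : δ ≠ 0 := fun h => hP0 (by rw [← h1, h, map_zero])
  obtain ⟨f, hf1, hf2, hf3⟩ := hdet δ⁻¹
  rw [map_inv₀, h1, inv_mul_cancel₀ hP0] at hf3
  have hdf : (aeval c.1 f).det = 1 := i.injective (by rw [hf3, map_one])
  have hfe : (X - C ν) * p ∣ f ^ e - X := by
    refine IsCoprime.mul_dvd ?_ ?_ ?_
    · exact ((irreducible_X_sub_C ν).coprime_iff_not_dvd.2 fun h => hν (dvd_iff_isRoot.1 h))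
    · rw [dvd_iff_isRoot, IsRoot, eval_sub, eval_pow, eval_X, hf1]
      apply i.injective
      rw [map_sub, map_pow, map_inv₀, h1, map_zero, inv_pow, sub_eq_zero]
      exact (eq_inv_of_mul_eq_one_left hνP).symm
    · have h2 : f ^ e - X = (f ^ e - g₀ ^ e) + (g₀ ^ e - X) := by ring
      rw [h2]
      exact dvd_add (hf2.trans (sub_dvd_pow_sub_pow f g₀ e)) hg₀
  have hbe : (aeval c.1 f) ^ e = c.1 := by
    obtain ⟨q, hq⟩ := hfe
    have h2 := congrArg (aeval c.1) hq
    rw [map_sub, map_pow, aeval_X, map_mul, ← hc, Matrix.aeval_self_charpoly, zero_mul, sub_eq_zero] at h2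
    exact h2
  have hpow : ∀ (b : SpecialLinearGroup (Fin n) K) (k : ℕ), (b ^ k : SpecialLinearGroup (Fin n) K).1 = b.1 ^ k :=
    fun b k => Matrix.SpecialLinearGroup.coe_pow b k
  obtain ⟨b, hb⟩ : ∃ b : SpecialLinearGroup (Fin n) K, b.1 = aeval c.1 f := ⟨⟨aeval c.1 f, hdf⟩, rfl⟩
  refine ⟨b, Subtype.ext ?_, Subtype.ext ?_⟩
  · rw [hpow, hb]; exact hbe
  · rw [hpow, hb]
    apply Matrix.map_injective i.injective
    have h2 : ((aeval c.1 f) ^ (Nat.card K' - 1)).map i = (aeval c.1 (f ^ (Nat.card K' - 1))).map i := by rw [map_pow]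
    change ((aeval c.1 f) ^ (Nat.card K' - 1)).map i = (1 : Matrix (Fin n) (Fin n) K).map i
    rw [h2, aeval_diag i hg, Matrix.map_one _ (map_zero i) (map_one i)]
    have h3 : (fun a => ((f ^ (Nat.card K' - 1)).map i).eval (lam a)) = fun _ => (1 : K') := by
      funext a
      rw [Polynomial.map_pow, eval_pow]
      have := Fintype.ofFinite K'
      rw [Nat.card_eq_fintype_card]
      refine FiniteField.pow_card_sub_one_eq_one _ ?_
      intro h4
      have h5 : ((f.map i).eval (lam a)) ^ e = lam a := by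
        obtain ⟨q, hq⟩ := hfe
        have h6 := congrArg (fun f : K[X] => (f.map i).eval (lam a)) hq
        have h7 : (((X - C ν) * p * q).map i).eval (lam a) = 0 := by
          rw [Polynomial.map_mul, eval_mul, hs, eval_prod,
            Finset.prod_eq_zero (Finset.mem_univ a) (by rw [eval_sub, eval_X, eval_C, sub_self]), zero_mul]
        simp only [h7] at h6
        simp only [Polynomial.map_sub, Polynomial.map_pow, map_X, eval_sub, eval_pow, eval_X] at h6
        exact sub_eq_zero.1 h6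
      rw [h4, zero_pow he] at h5
      exact hl0 a h5.symm
    rw [h3, Matrix.diagonal_one, mul_one, ← Units.val_mul, mul_inv_cancel, Units.val_one]

end Cfsg.Agent.H584.War.Root
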