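import Cfsg.Agent.H85.Pw.EBlk
import Cfsg.Agent.H584.War.Root
import Cfsg.Agent.H130.War.Base

/-!
# One block of type `A`: the word `x ^ e y ^ e` (S2453)

* `exists_classE` : the class of the block consists of `e`-th powers of elements of order prime to the characteristic;
* `ss_of_blk` : `SS p e` for the group;
* `ss_E8`, `ss_E7` : the rows, `e < q - 1`.
-/

set_option autoImplicit false
set_option linter.unusedSectionVars false

namespace Cfsg.Agent.H584.War.Blk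

open CoxeterSystem Cfsg.Agent.ChevalleyStructure.CoxeterGeom Cfsg.Agent.Tits.Roots Cfsg.Agent.Tits.Core
  Cfsg.Agent.Nodes.Reps Cfsg.Agent.Nodes.BNOf Cfsg.Agent.Nodes.RGDLib Cfsg.Agent.Nodes.Bruhat
  Cfsg.Agent.Nodes.OppDec Cfsg.Agent.Nodes.LeviDec Cfsg.Agent.Nodes.KindChev Cfsg.Agent.Nodes.ChevCls
  Cfsg.Agent.OddHalf.NI.ModelChev
  Cfsg.Agent.H162.GaussDec Cfsg.Agent.H162.GaussLevi Cfsg.Agent.H162.GaussSL
  Cfsg.Agent.H162.GaussMain Cfsg.Agent.H162.GaussPQ Cfsg.Agent.H162.GaussExc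
open Cfsg.Lie Cfsg.Agent.ChevalleyStructure Cfsg.Agent.ChevalleyStructure.Elts
  Cfsg.Agent.ChevalleyStructure.RootVec Cfsg.Agent.ChevalleyStructure.NPerm
  Cfsg.Agent.ChevalleyStructure.CoxeterGeomTypes Cfsg.Agent.Nodes.RGDChev Cfsg.Agent.KFacts.RgdChevCoord
open Cfsg.Agent.H928.Ore.Frame (NF LP)
open Cfsg.Agent.H224.Ore.Zeta (Zet)
open Cfsg.Agent.H85.Ore Cfsg.Agent.H85.Pw
open Cfsg.Agent.H130.War (SS)
open Polynomial (X C)

universe u

theorem geom {q m : ℕ} (hq : 2 ≤ q) : (∑ a ∈ Finset.range m, q ^ a) * (q - 1) = q ^ m - 1 := by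
  have := Nat.geomSum_eq (m := q) (by omega) m
  have hd : q - 1 ∣ q ^ m - 1 := by
    have := Nat.sub_dvd_pow_sub_pow q 1 m
    rwa [one_pow] at this
  rw [this, Nat.div_mul_cancel hd]

/-- the order of the class -/
theorem exists_N {q m e : ℕ} (he : e ≠ 0) (hm : m ≠ 0) (hlt : e < q - 1) :
    ∃ N : ℕ, N * Nat.gcd e (q ^ m - 1) = q ^ m - 1 ∧ ∑ a ∈ Finset.range m, q ^ a < N := by
  have hq : 2 ≤ q := by omega
  have h1 : 1 < q ^ m := Nat.one_lt_pow hm (by omega)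
  refine ⟨(q ^ m - 1) / Nat.gcd e (q ^ m - 1), Nat.div_mul_cancel (Nat.gcd_dvd_right _ _), ?_⟩
  obtain ⟨N, hN⟩ : ∃ N, N = (q ^ m - 1) / Nat.gcd e (q ^ m - 1) := ⟨_, rfl⟩
  rw [← hN]
  have h2 : N * Nat.gcd e (q ^ m - 1) = q ^ m - 1 := by rw [hN]; exact Nat.div_mul_cancel (Nat.gcd_dvd_right _ _)
  have h3 := geom (m := m) hq
  have h4 : Nat.gcd e (q ^ m - 1) ≤ e := Nat.gcd_le_left _ (Nat.pos_of_ne_zero he)
  have h5 : 0 < N := Nat.pos_of_ne_zero fun h => by rw [h, zero_mul] at h2; omega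
  have h6 : (∑ a ∈ Finset.range m, q ^ a) * (q - 1) < N * (q - 1) := by
    rw [h3, ← h2]
    exact Nat.mul_lt_mul_of_pos_left (by omega) h5
  exact Nat.lt_of_mul_lt_mul_right h6

/-- the order of a unit of a finite extension is prime to the characteristic -/
theorem coprime_ext {K K' : Type*} [Field K] [Field K'] [Finite K'] (i : K →+* K') (p : ℕ) [Fact p.Prime] [CharP K p] :
    (Nat.card K' - 1).Coprime p := by
  have : CharP K' p := charP_of_injective_ringHom i.injective p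
  have := coprime_card (K := K') (p := p) (m := 1) one_ne_zero
  rwa [pow_one] at this

section

variable {D : ChevalleyDatum} {l : ℕ} {M : CoxeterMatrix (Fin l)} (hp : IsType D l M) {K : Type u} [Field K] [Finite K]
  {J : List (Fin l)} {n : ℕ} {r : Fin (n + 2) → Fin (n + 2) → ℕ} {j : Fin (n + 1) → Fin l}

/-- **The class of the block, with roots.** -/
theorem exists_classE (p₀ : ℕ) [Fact p₀.Prime] [CharP K p₀] {e : ℕ} (he : e ≠ 0) (hq : e < Nat.card K - 1) (hn : 1 ≤ n)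
    (hW : ChkW D l J n j)
    (hphi' : ∀ (F : Type) [Field F], ∃ φ : Matrix.SpecialLinearGroup (Fin (n + 2)) F →* ↥(D.group F),
      ∀ a b (hab : a ≠ b) c, φ (Matrix.SpecialLinearGroup.transvection hab c) =
        xc hp (vec D l (r a b)) (((-1 : ℤ) : F) * c))
    (hr : ∀ a b, a ≠ b → r a b < D.nroots) (hrJ : ∀ a b, a ≠ b → ∀ k, k ∉ J → vec D l (r a b) k = 0)
    (hneg : ∀ a b, a ≠ b → r b a = D.neg (r a b)) (hj : ∀ a : Fin (n + 1), r a.castSucc a.succ = D.simple (j a))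
    {φ : Matrix.SpecialLinearGroup (Fin (n + 2)) K →* ↥(D.group K)}
    (hφ : ∀ a b (hab : a ≠ b) c, φ (Matrix.SpecialLinearGroup.transvection hab c) =
      xc hp (vec D l (r a b)) (((-1 : ℤ) : K) * c)) :
    ∃ b : Matrix.SpecialLinearGroup (Fin (n + 2)) K, (orderOf b).Coprime p₀ ∧ OneClass hp K J φ (b ^ e) := by
  obtain ⟨N, hN, hlt⟩ := exists_N (m := n + 1) he (by omega) hq
  obtain ⟨K', iF, iK, i, ν, p, lam, Z, hZ⟩ := exists_zetN K (m := n + 1) (by omega) ⟨_, hN.symm⟩ hlt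
  obtain ⟨c₀, h1, h2, h3⟩ := Cfsg.Agent.H150.MF.mf_poly (by omega) (n := n + 2) (by omega) Z.monic Z.deg Z.c0 Z.nu
  have key : ∀ g : Matrix.SpecialLinearGroup (Fin (n + 2)) K,
      NF (VJ M.toCoxeterSystem hp.isCartan (XX D l K) {k | k ∈ J}) (φ (g * c₀ * g⁻¹)) ∧
        NF (VNJ M.toCoxeterSystem hp.isCartan (XX D l K) {k | k ∈ J}) (φ (g * c₀ * g⁻¹)) := by
    intro x
    obtain ⟨g, hg⟩ := Cfsg.Agent.H934.MF.diag_map i (x * c₀ * x⁻¹).1 Z.inj (by rw [charpoly_conj, h1]; exact Z.split)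
    obtain ⟨φ', hφ'⟩ := hphi' K'
    obtain ⟨ch, hch⟩ := CharP.exists K'
    have := Fintype.ofFinite K'
    have : Fact ch.Prime := ⟨(CharP.char_is_prime_or_zero K' ch).resolve_right (CharP.char_ne_zero_of_finite K' ch)⟩
    have B : Cfsg.Agent.H482.Ore.Fix.Bk hp i {k | k ∈ J} n r j φ φ' (fun _ _ => ((-1 : ℤ) : K)) :=
      { simp := ⟨hj, fun a => by rw [← hj a]; exact hneg _ _ (cs_ne a)⟩
        rlt := hr
        rJ := hrJ
        hφ := hφ
        hφ' := fun a b hab c => by rw [hφ' a b hab c, map_intCast]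
        ss := fun a => by simp }
    exact Cfsg.Agent.H482.Ore.Fix.nf_block' hp ch B (g := g) hg fun q hq hk => ne_one' Z hW hq hk
  have hdeg : p.natDegree = n + 1 := by have := Z.deg; omega
  obtain ⟨b, hb1, hb2⟩ := Cfsg.Agent.H584.War.Root.exists_root i c₀ Z.irr Z.nu h1 Z.inj Z.split he
    (by rw [hdeg]; exact hN) hZ
  refine ⟨b, Nat.Coprime.of_dvd_left (orderOf_dvd_of_pow_eq_one hb2) (coprime_ext i p₀), ?_⟩
  rw [hb1]
  exact ⟨h3, fun g => (key g).1, fun g => (key g).2⟩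

end

section

variable {D : ChevalleyDatum} {l : ℕ} {M : CoxeterMatrix (Fin l)} (hp : IsType D l M) {K : Type u} [Field K] [Finite K]
  (hl : 0 < l) (hG : IsSimpleGroup ↥(D.group K) ∧ ¬ IsMulCommutative ↥(D.group K))
  (hM : ∀ J : Finset (Fin l), J = ∅ ∨ J = Finset.univ ∨ ∃ a ∈ J, ∃ b, b ∉ J ∧ M a b ≠ 2)
  {J : List (Fin l)} {m : Fin l → ℤ} {ω : List (Fin l)} {n : ℕ} {r : Fin (n + 2) → Fin (n + 2) → ℕ}
  (TB : TabB D l J m ω n r)
  {φ : Matrix.SpecialLinearGroup (Fin (n + 2)) K →* ↥(D.group K)} {s : Fin (n + 2) → Fin (n + 2) → K}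
  (hs : ∀ a b, s a b ≠ 0)
  (hφ : ∀ a b (hab : a ≠ b) c, φ (Matrix.SpecialLinearGroup.transvection hab c) = xc hp (vec D l (r a b)) (s a b * c))

include hl hG hM TB hs hφ in
/-- **Every element is a product of two `e`-th powers from the class of the block.** -/
theorem ss_of_blk (p : ℕ) [Fact p.Prime] [CharP K p] {e : ℕ} {b : Matrix.SpecialLinearGroup (Fin (n + 2)) K}
    (hb : (orderOf b).Coprime p) (hc : OneClass hp K J φ (b ^ e)) : SS p e ↥(D.group K) := by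
  intro g
  have := finite_W hp M.toCoxeterSystem
  have : Nonempty (Fin l) := ⟨⟨0, hl⟩⟩
  by_cases hg : g ∈ (RGD.B M.toCoxeterSystem hp.isCartan (TT D K) (XX D l K)).normalCore
  · rw [one_of_core hp hl hG.1 hg]
    exact ⟨1, 1, by simp, by rw [orderOf_one]; exact Nat.coprime_one_left p, by
      rw [orderOf_one]; exact Nat.coprime_one_left p⟩
  · have ho : ∀ z : Matrix.SpecialLinearGroup (Fin (n + 2)) K, (orderOf z).Coprime p → ∀ x y,
        (orderOf (y * φ (x * z * x⁻¹) * y⁻¹)).Coprime p := by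
      intro z hz x y
      refine Nat.Coprime.of_dvd_left ?_ hz
      apply orderOf_dvd_of_pow_eq_one
      rw [conj_pow, ← map_pow, conj_pow, pow_orderOf_eq_one, mul_one, mul_inv_cancel, map_one, mul_one, mul_inv_cancel]
    obtain ⟨c₁, c₂, x, y, ⟨⟨u, h1⟩, ⟨v, h2⟩⟩, h3⟩ := Cfsg.Agent.H928.Ore.Frame.pair (rgd (K := K) hp M.toCoxeterSystem p)
      (G1_eq_top hp _) (coord hp) (Cfsg.Agent.Nodes.ChevChart.irr_of hM) (J := {k | k ∈ J})
      (Pr := fun c₁ c₂ : ↥(D.group K) => (∃ u, c₁ = φ (u * b * u⁻¹) ^ e) ∧ ∃ v, c₂ = φ (v * b⁻¹ * v⁻¹) ^ e)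
      (fun v hv w hw => by
        obtain ⟨x, y, h1, h2⟩ := levi_pairs hp TB hs hφ hc hv hw
        refine ⟨_, _, h1, h2, ⟨x, ?_⟩, ⟨y, ?_⟩⟩
        · rw [← map_pow, conj_pow]
        · rw [← map_pow, conj_pow, inv_pow]) hg
    refine ⟨_, _, ?_, ho b hb u x, ho b⁻¹ (by rw [orderOf_inv]; exact hb) v y⟩
    rw [conj_pow, conj_pow, ← h1, ← h2, ← h3]

end

section

variable (K : Type u) [Field K] [Finite K] (p : ℕ) [Fact p.Prime] [CharP K p]

theorem ss_E8 {e : ℕ} (he : e ≠ 0) (hq : e < Nat.card K - 1) : SS p e ↥(chevE8.group K) := by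
  obtain ⟨φ, hφ⟩ := exists_phi8 K
  obtain ⟨b, hb, hc⟩ := exists_classE (n := 6) (j := j8) Cfsg.Agent.Nodes.KindE.isType8 p he hq (by norm_num) chkW8
    (fun F _ => exists_phi8 F) ch8a.1 ch8a.2 rt8.2.2.2 r8_simple hφ
  exact ss_of_blk Cfsg.Agent.Nodes.KindE.isType8 (by norm_num) (Cfsg.Agent.S1054.result chevE8 (by simp))
    Cfsg.Agent.Nodes.ChevChart.irr8 tab8 (s := fun _ _ => ((-1 : ℤ) : K)) (fun _ _ => by simp) hφ p hb hc

theorem ss_E7 {e : ℕ} (he : e ≠ 0) (hq : e < Nat.card K - 1) : SS p e ↥(chevE7.group K) := by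
  obtain ⟨φ, hφ⟩ := exists_phi7 K
  obtain ⟨b, hb, hc⟩ := exists_classE (n := 5) (j := j7) Cfsg.Agent.Nodes.KindE.isType7 p he hq (by norm_num) chkW7
    (fun F _ => exists_phi7 F) ch7a.1 ch7a.2 rt7.2.2.2 r7_simple hφ
  exact ss_of_blk Cfsg.Agent.Nodes.KindE.isType7 (by norm_num) (Cfsg.Agent.S1054.result chevE7 (by simp))
    Cfsg.Agent.Nodes.ChevChart.irr7 tab7 (s := fun _ _ => ((-1 : ℤ) : K)) (fun _ _ => by simp) hφ p hb hc

end

end Cfsg.Agent.H584.War.Blk
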